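import Cfsg.Agent.H157.Ab.Rows
import Cfsg.Agent.H400.LieLocal
import Cfsg.Agent.S1062
import Cfsg.Agent.S1063
import Cfsg.Agent.S1064
import Cfsg.Agent.S1065
import Cfsg.Agent.S1066
import Cfsg.Agent.S1067

/-!
# Abelian subgroups of exceptional groups: the numerics (helper928)

The rows `F₄`, `E₆`, `E₇`, `E₈`, `²E₆`, `³D₄` of S2501 from the mixture lemma `X1`, the bounds `PB..` for the abelian
`p`-subgroups and the bounds `SB..` for the abelian `p'`-subgroups.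
-/

set_option autoImplicit false

namespace Cfsg.Agent.H928.AbNum

open Cfsg Cfsg.Agent.H157.Ab

/-! ### the inequality -/

/-- **The numerical criterion.** -/
theorem key {A G q g c l E M m v w : ℕ} (hm : 0 < m) (hq : m ≤ q) (hG : q ^ M ≤ g * G)
    (hA : A ^ v ≤ q ^ E * (c * (q + 1) ^ l) ^ w) (hle : 3 * E + 3 * w * l ≤ v * M)
    (hnum : g ^ v * c ^ (3 * w) * (m + 1) ^ (3 * w * l) < m ^ (3 * w * l) * m ^ (v * M - (3 * E + 3 * w * l))) :
    A ^ 3 < G := by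
  by_contra hcon
  have hcon : G ≤ A ^ 3 := not_lt.1 hcon
  have hq0 : 0 < q := lt_of_lt_of_le hm hq
  have h1 : q ^ (v * M) ≤ g ^ v * (q ^ (3 * E) * (c ^ (3 * w) * (q + 1) ^ (3 * w * l))) := by
    calc q ^ (v * M) = (q ^ M) ^ v := by rw [← pow_mul, mul_comm]
      _ ≤ (g * G) ^ v := Nat.pow_le_pow_left hG v
      _ ≤ (g * A ^ 3) ^ v := Nat.pow_le_pow_left (Nat.mul_le_mul_left g hcon) v
      _ = g ^ v * (A ^ v) ^ 3 := by rw [mul_pow, ← pow_mul, ← pow_mul, mul_comm 3 v]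
      _ ≤ g ^ v * (q ^ E * (c * (q + 1) ^ l) ^ w) ^ 3 := Nat.mul_le_mul_left _ (Nat.pow_le_pow_left hA 3)
      _ = g ^ v * (q ^ (3 * E) * (c ^ (3 * w) * (q + 1) ^ (3 * w * l))) := by
          congr 1
          rw [mul_pow, mul_pow, mul_pow, ← pow_mul, ← pow_mul, ← pow_mul, ← pow_mul, mul_comm E 3, mul_comm w 3,
            mul_comm l (3 * w)]
  have h2 : (m * (q + 1)) ^ (3 * w * l) ≤ ((m + 1) * q) ^ (3 * w * l) := by
    apply Nat.pow_le_pow_left
    nlinarith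
  have h3 : m ^ (3 * w * l) * q ^ (v * M) ≤
      g ^ v * c ^ (3 * w) * (m + 1) ^ (3 * w * l) * q ^ (3 * E + 3 * w * l) := by
    calc m ^ (3 * w * l) * q ^ (v * M)
        ≤ m ^ (3 * w * l) * (g ^ v * (q ^ (3 * E) * (c ^ (3 * w) * (q + 1) ^ (3 * w * l)))) :=
          Nat.mul_le_mul_left _ h1
      _ = g ^ v * c ^ (3 * w) * q ^ (3 * E) * (m * (q + 1)) ^ (3 * w * l) := by
          rw [mul_pow]; ring
      _ ≤ g ^ v * c ^ (3 * w) * q ^ (3 * E) * ((m + 1) * q) ^ (3 * w * l) := Nat.mul_le_mul_left _ h2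
      _ = g ^ v * c ^ (3 * w) * (m + 1) ^ (3 * w * l) * q ^ (3 * E + 3 * w * l) := by
          rw [mul_pow, pow_add]; ring
  have h4 : q ^ (v * M) = q ^ (v * M - (3 * E + 3 * w * l)) * q ^ (3 * E + 3 * w * l) := by
    rw [← pow_add, Nat.sub_add_cancel hle]
  rw [h4, ← mul_assoc] at h3
  have h5 := Nat.le_of_mul_le_mul_right h3 (pow_pos hq0 _)
  have h6 : m ^ (3 * w * l) * m ^ (v * M - (3 * E + 3 * w * l)) ≤
      m ^ (3 * w * l) * q ^ (v * M - (3 * E + 3 * w * l)) :=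
    Nat.mul_le_mul_left _ (Nat.pow_le_pow_left hq _)
  omega

/-- the criterion for explicit numbers -/
theorem key0 {A G B v : ℕ} (hA : A ^ v ≤ B) (hnum : B ^ 3 < G ^ v) : A ^ 3 < G := by
  by_contra hcon
  have hcon : G ≤ A ^ 3 := not_lt.1 hcon
  have h1 : G ^ v ≤ B ^ 3 :=
    calc G ^ v ≤ (A ^ 3) ^ v := Nat.pow_le_pow_left hcon v
      _ = (A ^ v) ^ 3 := by rw [← pow_mul, ← pow_mul, mul_comm]
      _ ≤ B ^ 3 := Nat.pow_le_pow_left hA 3
  omega

theorem cond_two (f : ℕ) (hf : 1 ≤ f) : (2 ^ f + 1) ^ 5 ≤ 2 ^ (f * 8) := by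
  rw [pow_mul]
  rcases Nat.eq_or_lt_of_le hf with rfl | h
  · norm_num
  · have hx : 4 ≤ 2 ^ f := by
      calc 4 = 2 ^ 2 := by norm_num
        _ ≤ 2 ^ f := Nat.pow_le_pow_right (by norm_num) h
    generalize 2 ^ f = x at hx
    have h1 : (4 * (x + 1)) ^ 5 ≤ (5 * x) ^ 5 := Nat.pow_le_pow_left (by omega) 5
    have h2 : 4 ^ 5 * (x + 1) ^ 5 ≤ 5 ^ 5 * x ^ 5 := by rw [← mul_pow, ← mul_pow]; exact h1
    have h3 : 4 * x ^ 5 ≤ x ^ 6 := by
      rw [pow_succ x 5, mul_comm 4]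
      exact Nat.mul_le_mul_left _ hx
    have h4 : x ^ 6 ≤ x ^ 8 := Nat.pow_le_pow_right (by omega) (by norm_num)
    nlinarith

theorem cond_odd {p : ℕ} (hp : 3 ≤ p) (f : ℕ) (hf : 1 ≤ f) : (p ^ f + 1) ^ 3 ≤ p ^ (f * 4) := by
  rw [pow_mul]
  have hx : 3 ≤ p ^ f := by
    calc 3 ≤ p := hp
      _ = p ^ 1 := (pow_one p).symm
      _ ≤ p ^ f := Nat.pow_le_pow_right (by omega) hf
  generalize p ^ f = x at hx
  have h1 : (3 * (x + 1)) ^ 3 ≤ (4 * x) ^ 3 := Nat.pow_le_pow_left (by omega) 3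
  have h2 : 3 ^ 3 * (x + 1) ^ 3 ≤ 4 ^ 3 * x ^ 3 := by rw [← mul_pow, ← mul_pow]; exact h1
  have h3 : 3 * x ^ 3 ≤ x ^ 4 := by
    rw [pow_succ x 3, mul_comm 3]
    exact Nat.mul_le_mul_left _ hx
  nlinarith

/-! ### the three cases for an abelian subgroup -/

section Cases

variable {G : Type} [Group G] [Finite G] {p : ℕ} [Fact p.Prime]

/-- `p = 2` -/
theorem cases_two (h1 : X1) (hL : BpLieP.Big.LocChar 2 G) {a s : ℕ} (hP : PB 2 G a) (hS : SB 2 G s)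
    {A : Subgroup G} (hA : IsMulCommutative A) :
    Nat.card A ^ 1 ≤ s ^ 1 ∨ Nat.card A ^ 8 ≤ a ^ 8 * s ^ 3 := by
  have : Fact (Nat.Prime 2) := ⟨Nat.prime_two⟩
  by_cases h : 2 ∣ Nat.card A
  · right
    exact h1 G 2 hL 5 8 (by norm_num) (fun f hf => cond_two f hf) a s hP hS A hA h
  · left
    rw [pow_one, pow_one]
    exact hS A hA h

/-- `p` odd -/
theorem cases_odd (h1 : X1) (hL : BpLieP.Big.LocChar p G) (hp : 3 ≤ p) {a s : ℕ} (hP : PB p G a) (hS : SB p G s)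
    {A : Subgroup G} (hA : IsMulCommutative A) :
    Nat.card A ^ 1 ≤ s ^ 1 ∨ Nat.card A ^ 4 ≤ a ^ 4 * s ^ 1 := by
  by_cases h : p ∣ Nat.card A
  · right
    exact h1 G p hL 3 4 (by norm_num) (fun f hf => cond_odd hp f hf) a s hP hS A hA h
  · left
    rw [pow_one, pow_one]
    exact hS A hA h

end Cases

theorem cop_le (p n : ℕ) : cop p n ≤ n := Nat.div_le_self _ _

theorem pow_pred_le {q d : ℕ} (hq : 2 ≤ q) (hd : d ≠ 0) : q ^ (d - 1) ≤ q ^ d - 1 := by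
  obtain ⟨k, rfl⟩ := Nat.exists_eq_succ_of_ne_zero hd
  have h1 : 1 ≤ q ^ k := Nat.one_le_pow _ _ (by omega)
  have h2 : q ^ (k + 1) = q ^ k * q := pow_succ _ _
  have h3 : q ^ k * 2 ≤ q ^ k * q := Nat.mul_le_mul_left _ hq
  simp only [Nat.succ_eq_add_one, Nat.add_sub_cancel]
  omega

/-! ### the local characteristic -/

theorem locChar_exc {G : Type} [Group G] [Finite G] {p : ℕ} [Fact p.Prime] (h : Cfsg.IsExceptionalChevChar p G) :
    BpLieP.Big.LocChar p G := by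
  have hl : Cfsg.IsLieTypeChar p G := Or.inr (Or.inr (Or.inr (Or.inr (Or.inr (Or.inr (Or.inl h))))))
  have hs : IsSimpleGroup G := H400.LieSimple.isSimple_of_lie hl
  exact H400.LieLocal.locChar_of_filt (KFacts.RgdLieCharP.hasFilt_of_lie
    (Or.inr (Or.inr (Or.inr (Or.inr (Or.inr (Or.inr (Or.inl h))))))))

theorem locChar_tw {G : Type} [Group G] [Finite G] {p : ℕ} [Fact p.Prime] (h : Cfsg.IsTwistedE6D4Char p G) :
    BpLieP.Big.LocChar p G := by
  have hl : Cfsg.IsLieTypeChar p G := Or.inr (Or.inr (Or.inr (Or.inr (Or.inr (Or.inr (Or.inr (Or.inl h)))))))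
  have hs : IsSimpleGroup G := H400.LieSimple.isSimple_of_lie hl
  exact H400.LieLocal.locChar_of_filt (KFacts.RgdLieCharP.hasFilt_of_lie
    (Or.inr (Or.inr (Or.inr (Or.inr (Or.inr (Or.inr (Or.inr h))))))))

theorem mul_le_mul_of {a b c d : ℕ} (h1 : a ≤ b) (h2 : c ≤ d) : a * c ≤ b * d := Nat.mul_le_mul h1 h2

/-! ### the general row -/

/-- **The row.** `a` the bound for the abelian `p`-subgroups (`a² ≤ q ^ b`), `q ^ M ≤ g |G|`. -/
theorem row {G : Type} [Group G] [Finite G] {p q : ℕ} [hp : Fact p.Prime] (h1 : X1)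
    (hL : BpLieP.Big.LocChar p G) {a : ℕ} (hP : PB p G a) {w l M g b : ℕ} (ha : a ^ 2 ≤ q ^ b)
    (hS : SB p G (cop p w * (q + 1) ^ l)) (hG : q ^ M ≤ g * Nat.card G) (c m2 m1 : ℕ) (hc : cop 2 w = c)
    (hm2 : 0 < m2) (hm1 : 0 < m1) (hs2 : p = 2 → q < m2 → Ab3 G) (hs1 : p ≠ 2 → q < m1 → Ab3 G)
    (n0 : 3 * l ≤ M) (n2 : 3 * (b * 4) + 3 * 3 * l ≤ 8 * M) (n1 : 3 * (b * 2) + 3 * 1 * l ≤ 4 * M)
    (num2 : g ^ 1 * c ^ (3 * 1) * (m2 + 1) ^ (3 * 1 * l) < m2 ^ (3 * 1 * l) * m2 ^ (1 * M - (3 * 0 + 3 * 1 * l)))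
    (num1 : g ^ 1 * w ^ (3 * 1) * (m1 + 1) ^ (3 * 1 * l) < m1 ^ (3 * 1 * l) * m1 ^ (1 * M - (3 * 0 + 3 * 1 * l)))
    (nux2 : g ^ 8 * c ^ (3 * 3) * (m2 + 1) ^ (3 * 3 * l) <
      m2 ^ (3 * 3 * l) * m2 ^ (8 * M - (3 * (b * 4) + 3 * 3 * l)))
    (nux1 : g ^ 4 * w ^ (3 * 1) * (m1 + 1) ^ (3 * 1 * l) <
      m1 ^ (3 * 1 * l) * m1 ^ (4 * M - (3 * (b * 2) + 3 * 1 * l))) : Ab3 G := by
  by_cases hp2 : p = 2
  · by_cases h4 : q < m2
    · exact hs2 hp2 h4
    · have h4 : m2 ≤ q := not_lt.1 h4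
      subst hp2
      rw [hc] at hS
      intro A hA
      rcases cases_two h1 hL hP hS hA with h | h
      · have h' : Nat.card A ^ 1 ≤ q ^ 0 * (c * (q + 1) ^ l) ^ 1 := by rw [pow_zero, one_mul]; exact h
        exact key hm2 h4 hG h' (by omega) num2
      · have h5 : a ^ 8 ≤ q ^ (b * 4) := by
          calc a ^ 8 = (a ^ 2) ^ 4 := by rw [← pow_mul]
            _ ≤ (q ^ b) ^ 4 := Nat.pow_le_pow_left ha 4
            _ = q ^ (b * 4) := by rw [← pow_mul]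
        exact key hm2 h4 hG (h.trans (Nat.mul_le_mul_right _ h5)) n2 nux2
  · by_cases h4 : q < m1
    · exact hs1 hp2 h4
    · have h4 : m1 ≤ q := not_lt.1 h4
      have hp3 : 3 ≤ p := by
        have := hp.out.two_le
        omega
      have hS2 : SB p G (w * (q + 1) ^ l) := fun B hB hpB =>
        (hS B hB hpB).trans (Nat.mul_le_mul_right _ (cop_le _ _))
      intro A hA
      rcases cases_odd h1 hL hp3 hP hS2 hA with h | h
      · have h' : Nat.card A ^ 1 ≤ q ^ 0 * (w * (q + 1) ^ l) ^ 1 := by rw [pow_zero, one_mul]; exact h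
        exact key hm1 h4 hG h' (by omega) num1
      · have h5 : a ^ 4 ≤ q ^ (b * 2) := by
          calc a ^ 4 = (a ^ 2) ^ 2 := by rw [← pow_mul]
            _ ≤ (q ^ b) ^ 2 := Nat.pow_le_pow_left ha 2
            _ = q ^ (b * 2) := by rw [← pow_mul]
        exact key hm1 h4 hG (h.trans (Nat.mul_le_mul_right _ h5)) n1 nux1

/-- small `q` for `p = 2` -/
theorem small_two {G : Type} [Group G] [Finite G] (h1 : X1) (hL : BpLieP.Big.LocChar 2 G) {a s N : ℕ}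
    (hP : PB 2 G a) (hS : SB 2 G s) (hG : Nat.card G = N) (n1 : (s ^ 1) ^ 3 < N ^ 1)
    (n2 : (a ^ 8 * s ^ 3) ^ 3 < N ^ 8) : Ab3 G := by
  intro A hA
  rw [hG]
  rcases cases_two h1 hL hP hS hA with h | h
  · exact key0 h n1
  · exact key0 h n2

/-- small `q` for `p` odd -/
theorem small_odd {G : Type} [Group G] [Finite G] {p : ℕ} [Fact p.Prime] (hp : 3 ≤ p) (h1 : X1)
    (hL : BpLieP.Big.LocChar p G) {a s N : ℕ}
    (hP : PB p G a) (hS : SB p G s) (hG : Nat.card G = N) (n1 : (s ^ 1) ^ 3 < N ^ 1)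
    (n2 : (a ^ 4 * s ^ 1) ^ 3 < N ^ 4) : Ab3 G := by
  intro A hA
  rw [hG]
  rcases cases_odd h1 hL hp hP hS hA with h | h
  · exact key0 h n1
  · exact key0 h n2

theorem eq_two_of {p n q : ℕ} (hn : 0 < n) (hq : q = p ^ n) (h2 : p = 2) (h : q < 4) : q = 2 := by
  subst h2
  rcases Nat.lt_or_ge 1 n with h5 | h5
  · exfalso
    have : 2 ^ 2 ≤ 2 ^ n := Nat.pow_le_pow_right (by norm_num) h5
    omega
  · have : n = 1 := by omega
    rw [hq, this, pow_one]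

theorem not_lt_three {p n q : ℕ} (hp : p.Prime) (hn : 0 < n) (hq : q = p ^ n) (h2 : p ≠ 2) : ¬ q < 3 := by
  have := hp.two_le
  have h6 : p ^ 1 ≤ p ^ n := Nat.pow_le_pow_right (by omega) hn
  rw [pow_one] at h6
  omega

theorem eq_three_of {p n q : ℕ} (hp : p.Prime) (hn : 0 < n) (hq : q = p ^ n) (h2 : p ≠ 2) (h : q < 5) :
    p = 3 ∧ q = 3 := by
  have h1 := not_lt_three hp hn hq h2
  have h3 : q ≠ 4 := by
    intro h4
    have h5 : Even (p ^ n) := by rw [← hq, h4]; decide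
    have h6 : Even p := (Nat.even_pow.1 h5).1
    exact h2 ((Nat.Prime.even_iff hp).1 h6)
  have h4 : q = 3 := by omega
  have h5 : p ∣ q := by rw [hq]; exact dvd_pow_self p hn.ne'
  rw [h4] at h5
  exact ⟨(Nat.prime_dvd_prime_iff_eq hp Nat.prime_three).1 h5, h4⟩

/-! ### `F₄` -/

theorem card_F4 {F : Type} [Field F] [Fintype F] (hq : 2 ≤ Fintype.card F) :
    Fintype.card F ^ 48 ≤ 1 * Nat.card ↥(Lie.chevF4.group F) := by
  have h1 := S1062.result (F := F) rfl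
  rw [one_mul, h1]
  generalize Fintype.card F = q at hq
  calc q ^ 48 = q ^ 24 * q ^ (2 - 1) * q ^ (6 - 1) * q ^ (8 - 1) * q ^ (12 - 1) := by ring
    _ ≤ _ := by
      refine mul_le_mul_of (mul_le_mul_of (mul_le_mul_of (mul_le_mul_of le_rfl ?_) ?_) ?_) ?_ <;>
      exact pow_pred_le hq (by norm_num)

theorem f4_of (h1 : X1) (hP : PBF4) (hS : SBCh Lie.chevF4 4 1152) :
    ∀ (F : Type) [Field F] [Fintype F], Ab3 (Lie.chevF4.group F) := by
  intro F _ _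
  obtain ⟨p, hchar⟩ := CharP.exists F
  have hp : Fact p.Prime := ⟨CharP.char_is_prime F p⟩
  have hL : BpLieP.Big.LocChar p ↥(Lie.chevF4.group F) :=
    locChar_exc ⟨F, inferInstance, inferInstance, hchar, Or.inr (Or.inl ⟨MulEquiv.refl _⟩)⟩
  obtain ⟨n, -, hn⟩ := FiniteField.card F p
  have hq2 : 2 ≤ Fintype.card F := Fintype.one_lt_card
  have hc : cop 2 1152 = 9 := by decide +kernel
  refine row h1 hL (hP F p) (b := 26) (by rw [← pow_mul]) (hS F p) (card_F4 hq2) 9 4 3 hc (by norm_num)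
    (by norm_num) ?_ ?_ ?_ ?_ ?_ ?_ ?_ ?_ ?_
  · intro h2 h4
    have h5 := eq_two_of n.pos hn h2 h4
    subst h2
    have hP2 := hP F 2
    have hS2 := hS F 2
    rw [h5] at hP2 hS2
    rw [hc] at hS2
    exact small_two h1 hL hP2 hS2 (S1062.result (F := F) h5) (by norm_num) (by norm_num)
  · exact fun h2 h3 => absurd h3 (not_lt_three hp.out n.pos hn h2)
  all_goals norm_num

/-! ### `E₆` -/

theorem card_E6 {F : Type} [Field F] [Fintype F] (hq : 2 ≤ Fintype.card F) :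
    Fintype.card F ^ 72 ≤ 3 * Nat.card ↥(Lie.chevE6.group F) := by
  have h1 := S1063.result (F := F) rfl
  have h2 : Nat.gcd 3 (Fintype.card F - 1) ≤ 3 := Nat.gcd_le_left _ (by norm_num)
  refine le_trans ?_ (Nat.mul_le_mul_right _ h2)
  rw [h1]
  generalize Fintype.card F = q at hq
  calc q ^ 72 = q ^ 36 * q ^ (2 - 1) * q ^ (5 - 1) * q ^ (6 - 1) * q ^ (8 - 1) * q ^ (9 - 1) * q ^ (12 - 1) := by ring
    _ ≤ _ := by
      refine mul_le_mul_of (mul_le_mul_of (mul_le_mul_of (mul_le_mul_of (mul_le_mul_of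
        (mul_le_mul_of le_rfl ?_) ?_) ?_) ?_) ?_) ?_ <;>
      exact pow_pred_le hq (by norm_num)

theorem e6_of (h1 : X1) (hP : PBE6) (hS : SBCh Lie.chevE6 6 51840) :
    ∀ (F : Type) [Field F] [Fintype F], Ab3 (Lie.chevE6.group F) := by
  intro F _ _
  obtain ⟨p, hchar⟩ := CharP.exists F
  have hp : Fact p.Prime := ⟨CharP.char_is_prime F p⟩
  have hL : BpLieP.Big.LocChar p ↥(Lie.chevE6.group F) :=
    locChar_exc ⟨F, inferInstance, inferInstance, hchar, Or.inr (Or.inr (Or.inl ⟨MulEquiv.refl _⟩))⟩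
  obtain ⟨n, -, hn⟩ := FiniteField.card F p
  have hq2 : 2 ≤ Fintype.card F := Fintype.one_lt_card
  have hc : cop 2 51840 = 405 := by decide +kernel
  refine row h1 hL (hP F p) (b := 36) (by rw [← pow_mul]) (hS F p) (card_E6 hq2) 405 4 3 hc (by norm_num)
    (by norm_num) ?_ ?_ ?_ ?_ ?_ ?_ ?_ ?_ ?_
  · intro h2 h4
    have h5 := eq_two_of n.pos hn h2 h4
    subst h2
    have hP2 := hP F 2
    have hS2 := hS F 2
    rw [h5] at hP2 hS2
    rw [hc] at hS2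
    have hG := S1063.result (F := F) h5
    rw [show Nat.gcd 3 (2 - 1) = 1 from by norm_num, one_mul] at hG
    exact small_two h1 hL hP2 hS2 hG (by norm_num) (by norm_num)
  · exact fun h2 h3 => absurd h3 (not_lt_three hp.out n.pos hn h2)
  all_goals norm_num

/-! ### `E₇` -/

theorem card_E7 {F : Type} [Field F] [Fintype F] (hq : 2 ≤ Fintype.card F) :
    Fintype.card F ^ 126 ≤ 2 * Nat.card ↥(Lie.chevE7.group F) := by
  have h1 := S1064.result (F := F) rfl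
  have h2 : Nat.gcd 2 (Fintype.card F - 1) ≤ 2 := Nat.gcd_le_left _ (by norm_num)
  refine le_trans ?_ (Nat.mul_le_mul_right _ h2)
  rw [h1]
  generalize Fintype.card F = q at hq
  calc q ^ 126 = q ^ 63 * q ^ (2 - 1) * q ^ (6 - 1) * q ^ (8 - 1) * q ^ (10 - 1) * q ^ (12 - 1) * q ^ (14 - 1) *
        q ^ (18 - 1) := by ring
    _ ≤ _ := by
      refine mul_le_mul_of (mul_le_mul_of (mul_le_mul_of (mul_le_mul_of (mul_le_mul_of (mul_le_mul_of
        (mul_le_mul_of le_rfl ?_) ?_) ?_) ?_) ?_) ?_) ?_ <;>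
      exact pow_pred_le hq (by norm_num)

theorem e7_of (h1 : X1) (hP : PBE7) (hS : SBCh Lie.chevE7 7 2903040) :
    ∀ (F : Type) [Field F] [Fintype F], Ab3 (Lie.chevE7.group F) := by
  intro F _ _
  obtain ⟨p, hchar⟩ := CharP.exists F
  have hp : Fact p.Prime := ⟨CharP.char_is_prime F p⟩
  have hL : BpLieP.Big.LocChar p ↥(Lie.chevE7.group F) :=
    locChar_exc ⟨F, inferInstance, inferInstance, hchar, Or.inr (Or.inr (Or.inr (Or.inl ⟨MulEquiv.refl _⟩)))⟩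
  obtain ⟨n, -, hn⟩ := FiniteField.card F p
  have hq2 : 2 ≤ Fintype.card F := Fintype.one_lt_card
  have hc : cop 2 2903040 = 2835 := by decide +kernel
  refine row h1 hL (hP F p) (b := 64) (by rw [← pow_mul]) (hS F p) (card_E7 hq2) 2835 2 3 hc (by norm_num)
    (by norm_num) ?_ ?_ ?_ ?_ ?_ ?_ ?_ ?_ ?_
  · exact fun h2 h3 => absurd h3 (by omega)
  · exact fun h2 h3 => absurd h3 (not_lt_three hp.out n.pos hn h2)
  all_goals norm_num

/-! ### `E₈` -/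

theorem card_E8 {F : Type} [Field F] [Fintype F] (hq : 2 ≤ Fintype.card F) :
    Fintype.card F ^ 240 ≤ 1 * Nat.card ↥(Lie.chevE8.group F) := by
  have h1 := S1065.result (F := F) rfl
  rw [one_mul, h1]
  generalize Fintype.card F = q at hq
  calc q ^ 240 = q ^ 120 * q ^ (2 - 1) * q ^ (8 - 1) * q ^ (12 - 1) * q ^ (14 - 1) * q ^ (18 - 1) * q ^ (20 - 1) *
        q ^ (24 - 1) * q ^ (30 - 1) := by ring
    _ ≤ _ := by
      refine mul_le_mul_of (mul_le_mul_of (mul_le_mul_of (mul_le_mul_of (mul_le_mul_of (mul_le_mul_of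
        (mul_le_mul_of (mul_le_mul_of le_rfl ?_) ?_) ?_) ?_) ?_) ?_) ?_) ?_ <;>
      exact pow_pred_le hq (by norm_num)

set_option exponentiation.threshold 1000 in
theorem e8_of (h1 : X1) (hP : PBE8) (hS : SBCh Lie.chevE8 8 696729600) :
    ∀ (F : Type) [Field F] [Fintype F], Ab3 (Lie.chevE8.group F) := by
  intro F _ _
  obtain ⟨p, hchar⟩ := CharP.exists F
  have hp : Fact p.Prime := ⟨CharP.char_is_prime F p⟩
  have hL : BpLieP.Big.LocChar p ↥(Lie.chevE8.group F) :=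
    locChar_exc ⟨F, inferInstance, inferInstance, hchar, Or.inr (Or.inr (Or.inr (Or.inr ⟨MulEquiv.refl _⟩)))⟩
  obtain ⟨n, -, hn⟩ := FiniteField.card F p
  have hq2 : 2 ≤ Fintype.card F := Fintype.one_lt_card
  have hc : cop 2 696729600 = 42525 := by decide +kernel
  refine row h1 hL (hP F p) (b := 120) (by rw [← pow_mul]) (hS F p) (card_E8 hq2) 42525 2 3 hc (by norm_num)
    (by norm_num) ?_ ?_ ?_ ?_ ?_ ?_ ?_ ?_ ?_
  · exact fun h2 h3 => absurd h3 (by omega)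
  · exact fun h2 h3 => absurd h3 (not_lt_three hp.out n.pos hn h2)
  all_goals norm_num

/-! ### `²E₆` -/

theorem PB_of_sq {G : Type} [Group G] {p q b : ℕ}
    (h : ∀ A : Subgroup G, IsMulCommutative A → IsPGroup p A → Nat.card A ^ 2 ≤ q ^ b) : PB p G (Nat.sqrt (q ^ b)) := by
  intro A hA hpA
  rw [Nat.le_sqrt']
  exact h A hA hpA

theorem card_TwE6 {K : Type} [Field K] [Fintype K] {q : ℕ} (hq : IsPrimePow q) (hK : Fintype.card K = q ^ 2) :
    q ^ 74 ≤ 3 * Nat.card ↥(Lie.twistedE6 K q) := by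
  have h1 := S1066.result hq hK
  have h2 : Nat.gcd 3 (q + 1) ≤ 3 := Nat.gcd_le_left _ (by norm_num)
  refine le_trans ?_ (Nat.mul_le_mul_right _ h2)
  rw [h1]
  have hq2 : 2 ≤ q := hq.two_le
  calc q ^ 74 = q ^ 36 * q ^ (2 - 1) * q ^ 5 * q ^ (6 - 1) * q ^ (8 - 1) * q ^ 9 * q ^ (12 - 1) := by ring
    _ ≤ _ := by
      refine mul_le_mul_of (mul_le_mul_of (mul_le_mul_of (mul_le_mul_of (mul_le_mul_of
        (mul_le_mul_of le_rfl ?_) (Nat.le_succ _)) ?_) ?_) (Nat.le_succ _)) ?_ <;>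
      exact pow_pred_le hq2 (by norm_num)

/-- the characteristic and `q` -/
theorem exists_pow {K : Type} [Field K] [Fintype K] {q d : ℕ} (hq : IsPrimePow q) (hd : d ≠ 0)
    (hK : Fintype.card K = q ^ d) : ∃ (p n : ℕ), p.Prime ∧ CharP K p ∧ 0 < n ∧ q = p ^ n := by
  obtain ⟨p, n, hp, hn, rfl⟩ := hq
  have hp' : p.Prime := hp.nat_prime
  refine ⟨p, n, hp', ?_, hn, rfl⟩
  obtain ⟨r, hchar⟩ := CharP.exists K
  have hr : r.Prime := CharP.char_is_prime K r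
  have : Fact r.Prime := ⟨hr⟩
  obtain ⟨m, -, hm⟩ := FiniteField.card K r
  have h1 : p ∣ r ^ (m : ℕ) := by
    rw [← hm, hK, ← pow_mul]
    exact dvd_pow_self p (Nat.mul_ne_zero hn.ne' hd)
  have h2 : p = r := (Nat.prime_dvd_prime_iff_eq hp' hr).1 (hp'.dvd_of_dvd_pow h1)
  rwa [h2]

theorem twE6_of (h1 : X1) (hP : PBTwE6) (hS : SBTwE6) :
    ∀ (K : Type) [Field K] [Fintype K] (q : ℕ), IsPrimePow q → Fintype.card K = q ^ 2 →
      Ab3 (Lie.twistedE6 K q) := by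
  intro K _ _ q hq hK
  obtain ⟨p, n, hpp, hchar, hn0, hn⟩ := exists_pow hq two_ne_zero hK
  have hp : Fact p.Prime := ⟨hpp⟩
  have hL : BpLieP.Big.LocChar p ↥(Lie.twistedE6 K q) :=
    locChar_tw ⟨K, inferInstance, inferInstance, hchar, q, hq, Or.inl ⟨hK, ⟨MulEquiv.refl _⟩⟩⟩
  have hc : cop 2 51840 = 405 := by decide +kernel
  refine row h1 hL (PB_of_sq (hP K q hK p)) (b := 37) (Nat.sqrt_le' _) (hS K q hK p) (card_TwE6 hq hK) 405 4 3 hc
    (by norm_num) (by norm_num) ?_ ?_ ?_ ?_ ?_ ?_ ?_ ?_ ?_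
  · intro h2 h4
    have h5 := eq_two_of hn0 hn h2 h4
    subst h2
    subst h5
    have hP2 : PB 2 ↥(Lie.twistedE6 K 2) 370727 := by
      have h6 := PB_of_sq (hP K 2 hK 2)
      have h7 : Nat.sqrt (2 ^ 37) = 370727 := by decide +kernel
      rwa [h7] at h6
    have hS2 := hS K 2 hK 2
    rw [hc] at hS2
    have hG := S1066.result hq hK
    rw [show Nat.gcd 3 (2 + 1) = 3 from by norm_num] at hG
    have hG' : Nat.card ↥(Lie.twistedE6 K 2) =
        2 ^ 36 * (2 ^ 2 - 1) * (2 ^ 5 + 1) * (2 ^ 6 - 1) * (2 ^ 8 - 1) * (2 ^ 9 + 1) * (2 ^ 12 - 1) / 3 := by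
      rw [← hG, Nat.mul_div_cancel_left _ (by norm_num)]
    exact small_two h1 hL hP2 hS2 hG' (by norm_num) (by norm_num)
  · exact fun h2 h3 => absurd h3 (not_lt_three hp.out hn0 hn h2)
  all_goals norm_num

/-! ### `³D₄` -/

theorem card_TwD4 {K : Type} [Field K] [Fintype K] {q : ℕ} (hq : IsPrimePow q) (hK : Fintype.card K = q ^ 3) :
    q ^ 26 ≤ 1 * Nat.card ↥(Lie.twistedD4 K q) := by
  have h1 := S1067.result hq hK
  rw [one_mul, h1]
  have hq2 : 2 ≤ q := hq.two_le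
  calc q ^ 26 = q ^ 12 * q ^ (2 - 1) * q ^ (6 - 1) * q ^ 8 := by ring
    _ ≤ _ := by
      refine mul_le_mul_of (mul_le_mul_of (mul_le_mul_of le_rfl ?_) ?_) (by
        rw [add_assoc]; exact Nat.le_add_right _ _) <;>
      exact pow_pred_le hq2 (by norm_num)

theorem twD4_of (h1 : X1) (hP : PBTwD4) (hS : SBTwD4) :
    ∀ (K : Type) [Field K] [Fintype K] (q : ℕ), IsPrimePow q → Fintype.card K = q ^ 3 →
      Ab3 (Lie.twistedD4 K q) := by
  intro K _ _ q hq hK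
  obtain ⟨p, n, hpp, hchar, hn0, hn⟩ := exists_pow hq three_ne_zero hK
  have hp : Fact p.Prime := ⟨hpp⟩
  have hL : BpLieP.Big.LocChar p ↥(Lie.twistedD4 K q) :=
    locChar_tw ⟨K, inferInstance, inferInstance, hchar, q, hq, Or.inr ⟨hK, ⟨MulEquiv.refl _⟩⟩⟩
  have hc : cop 2 192 = 3 := by decide +kernel
  refine row h1 hL (PB_of_sq (hP K q hK p)) (b := 13) (Nat.sqrt_le' _) (hS K q hK p) (card_TwD4 hq hK) 3 4 5 hc
    (by norm_num) (by norm_num) ?_ ?_ ?_ ?_ ?_ ?_ ?_ ?_ ?_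
  · intro h2 h4
    have h5 := eq_two_of hn0 hn h2 h4
    subst h2
    subst h5
    have hP2 : PB 2 ↥(Lie.twistedD4 K 2) 64 := by
      intro A hA hpA
      have h6 := hP K 2 hK 2 A hA hpA
      obtain ⟨k, hk⟩ := IsPGroup.iff_card.1 hpA
      rw [hk, ← pow_mul] at h6
      have h7 : k * 2 ≤ 13 := (Nat.pow_le_pow_iff_right (by norm_num)).1 h6
      rw [hk]
      calc 2 ^ k ≤ 2 ^ 6 := Nat.pow_le_pow_right (by norm_num) (by omega)
        _ = 64 := by norm_num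
    have hS2 := hS K 2 hK 2
    rw [hc] at hS2
    exact small_two h1 hL hP2 hS2 (S1067.result hq hK) (by norm_num) (by norm_num)
  · intro h2 h3
    obtain ⟨h5, h6⟩ := eq_three_of hpp hn0 hn h2 h3
    subst h5
    subst h6
    have hP2 : PB 3 ↥(Lie.twistedD4 K 3) 1262 := by
      have h6 := PB_of_sq (hP K 3 hK 3)
      have h7 : Nat.sqrt (3 ^ 13) = 1262 := by decide +kernel
      rwa [h7] at h6
    have hS2 := hS K 3 hK 3
    rw [show cop 3 192 = 64 from by decide +kernel] at hS2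
    exact small_odd le_rfl h1 hL hP2 hS2 (S1067.result hq hK) (by norm_num) (by norm_num)
  all_goals norm_num

end Cfsg.Agent.H928.AbNum
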