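import Cfsg.Agent.H928.FrameA

/-!
# Orthogonal frames II: supports, the frame lemma
-/

set_option autoImplicit false
set_option linter.unusedSectionVars false
set_option linter.unusedSimpArgs false
set_option linter.unusedVariables false

namespace Cfsg.Agent.H928

open Matrix

variable {ι : Type*} [Fintype ι] [DecidableEq ι] {F : Type*} [Field F]

theorem finrank_inf_ker_lt (W : Submodule F (ι → F)) (i : ι) (w : ι → F) (hw : w ∈ W) (hwi : w i ≠ 0) :
    Module.finrank F ↥(W ⊓ LinearMap.ker (LinearMap.proj i : (ι → F) →ₗ[F] F)) < Module.finrank F W := by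
  apply Submodule.finrank_lt_finrank_of_lt
  refine lt_of_le_of_ne inf_le_left ?_
  intro h
  rw [← h] at hw
  have := (Submodule.mem_inf.1 hw).2
  rw [LinearMap.mem_ker, LinearMap.proj_apply] at this
  exact hwi this

theorem le_card_erase (S : Finset ι) (i : ι) : S.card ≤ (S.erase i).card + 1 := by
  have := Finset.pred_card_le_card_erase (s := S) (a := i)
  omega

theorem card_le_two_mul_finrank (W : Submodule F (ι → F)) (S : Finset ι)
    (h : ∀ k ∈ S, ∃ w ∈ W, w k ≠ 0 ∧ ∃ b, ∀ c, c ≠ k → c ≠ b → w c = 0) :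
    S.card ≤ 2 * Module.finrank F W := by
  induction' hd : Module.finrank F W using Nat.strong_induction_on with d ih generalizing W S
  rcases S.eq_empty_or_nonempty with hS | ⟨i, hi⟩
  · simp [hS]
  obtain ⟨w, hw, hwi, j, hj⟩ := h i hi
  set W' := W ⊓ LinearMap.ker (LinearMap.proj i : (ι → F) →ₗ[F] F) with hW'
  have hlt : Module.finrank F W' < Module.finrank F W := finrank_inf_ker_lt W i w hw hwi
  have key := ih (Module.finrank F W') (by omega) W' ((S.erase i).erase j) ?_ rfl
  · have h1 : S.card ≤ (S.erase i).card + 1 := le_card_erase _ _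
    have h2 : (S.erase i).card ≤ ((S.erase i).erase j).card + 1 := le_card_erase _ _
    omega
  · intro k hk
    rw [Finset.mem_erase, Finset.mem_erase] at hk
    obtain ⟨hkj, hki, hkS⟩ := hk
    obtain ⟨v, hv, hvk, b, hb⟩ := h k hkS
    by_cases hvi : v i = 0
    · exact ⟨v, Submodule.mem_inf.2 ⟨hv, by rw [LinearMap.mem_ker, LinearMap.proj_apply, hvi]⟩, hvk, b, hb⟩
    · have hib : i = b := by
        by_contra hib
        exact hvi (hb i (Ne.symm hki) hib)
      refine ⟨v - (v i / w i) • w, Submodule.mem_inf.2 ⟨W.sub_mem hv (W.smul_mem _ hw), ?_⟩, ?_, j, ?_⟩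
      · rw [LinearMap.mem_ker, LinearMap.proj_apply, Pi.sub_apply, Pi.smul_apply, smul_eq_mul]
        field_simp
        ring
      · rw [Pi.sub_apply, Pi.smul_apply, hj k hki hkj, smul_zero, sub_zero]
        exact hvk
      · intro c hck hcj
        rw [Pi.sub_apply, Pi.smul_apply, smul_eq_mul]
        by_cases hci : c = i
        · subst hci
          field_simp
          ring
        · rw [hb c hck (by rw [← hib]; exact hci), hj c hci hcj]
          ring

theorem card_lt_of_three (W : Submodule F (ι → F)) (S : Finset ι)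
    (h : ∀ k ∈ S, ∃ w ∈ W, w k ≠ 0 ∧ ∃ b, ∀ c, c ≠ k → c ≠ b → w c = 0)
    {u1 u2 u3 : ι} (h12 : u1 ≠ u2) (h13 : u1 ≠ u3) (h23 : u2 ≠ u3)
    {w1 w2 : ι → F} (hw1 : w1 ∈ W) (hw2 : w2 ∈ W) (h11 : w1 u1 ≠ 0)
    (h1 : ∀ c, c ≠ u1 → c ≠ u2 → w1 c = 0) (h22 : w2 u2 ≠ 0)
    (h2 : ∀ c, c ≠ u2 → c ≠ u3 → w2 c = 0) : S.card + 1 ≤ 2 * Module.finrank F W := by
  set W1 := W ⊓ LinearMap.ker (LinearMap.proj u1 : (ι → F) →ₗ[F] F) with hW1
  set W2 := W1 ⊓ LinearMap.ker (LinearMap.proj u2 : (ι → F) →ₗ[F] F) with hW2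
  have hlt1 : Module.finrank F W1 < Module.finrank F W := finrank_inf_ker_lt W u1 w1 hw1 h11
  have hlt2 : Module.finrank F W2 < Module.finrank F W1 := by
    apply finrank_inf_ker_lt W1 u2 w2 _ h22
    refine Submodule.mem_inf.2 ⟨hw2, ?_⟩
    rw [LinearMap.mem_ker, LinearMap.proj_apply, h2 u1 h12 h13]
  have key := card_le_two_mul_finrank W2 (((S.erase u1).erase u2).erase u3) ?_
  · have e1 : S.card ≤ (S.erase u1).card + 1 := le_card_erase _ _
    have e2 : (S.erase u1).card ≤ ((S.erase u1).erase u2).card + 1 := le_card_erase _ _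
    have e3 : ((S.erase u1).erase u2).card ≤ (((S.erase u1).erase u2).erase u3).card + 1 :=
      le_card_erase _ _
    omega
  · intro k hk
    rw [Finset.mem_erase, Finset.mem_erase, Finset.mem_erase] at hk
    obtain ⟨hk3, hk2, hk1, hkS⟩ := hk
    obtain ⟨v, hv, hvk, b, hb⟩ := h k hkS
    by_cases hb' : b = u1 ∨ b = u2 ∨ b = u3
    · refine ⟨v - (v u1 / w1 u1) • w1 - ((v u2 - (v u1 / w1 u1) * w1 u2) / w2 u2) • w2,
        Submodule.mem_inf.2 ⟨Submodule.mem_inf.2
          ⟨W.sub_mem (W.sub_mem hv (W.smul_mem _ hw1)) (W.smul_mem _ hw2), ?_⟩, ?_⟩, ?_, u3, ?_⟩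
      · rw [LinearMap.mem_ker, LinearMap.proj_apply, Pi.sub_apply, Pi.sub_apply, Pi.smul_apply,
          Pi.smul_apply, h2 u1 h12 h13, smul_eq_mul, smul_zero]
        field_simp
        ring
      · rw [LinearMap.mem_ker, LinearMap.proj_apply, Pi.sub_apply, Pi.sub_apply, Pi.smul_apply,
          Pi.smul_apply, smul_eq_mul, smul_eq_mul]
        field_simp
        ring
      · rw [Pi.sub_apply, Pi.sub_apply, Pi.smul_apply, Pi.smul_apply, h2 k hk2 hk3, h1 k hk1 hk2]
        simpa using hvk
      · intro c hck hc3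
        rw [Pi.sub_apply, Pi.sub_apply, Pi.smul_apply, Pi.smul_apply, smul_eq_mul, smul_eq_mul]
        by_cases hc1 : c = u1
        · subst hc1
          rw [h2 c h12 h13]
          field_simp
          ring
        · by_cases hc2 : c = u2
          · subst hc2
            field_simp
            ring
          · have hcb : c ≠ b := by
              rcases hb' with rfl | rfl | rfl <;> assumption
            rw [hb c hck hcb, h1 c hc1 hc2, h2 c hc2 hc3]
            ring
    · push Not at hb'
      refine ⟨v, Submodule.mem_inf.2 ⟨Submodule.mem_inf.2 ⟨hv, ?_⟩, ?_⟩, hvk, b, hb⟩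
      · rw [LinearMap.mem_ker, LinearMap.proj_apply]
        exact hb u1 (Ne.symm hk1) (Ne.symm hb'.1)
      · rw [LinearMap.mem_ker, LinearMap.proj_apply]
        exact hb u2 (Ne.symm hk2) (Ne.symm hb'.2.1)

theorem sg_pair_apply {k l : ι} (hkl : k ≠ l) (x : ι → F) :
    sg F {k, l} x = x - (2 * x k) • ee F k - (2 * x l) • ee F l := by
  funext j
  rw [sg_apply, Pi.sub_apply, Pi.sub_apply, Pi.smul_apply, Pi.smul_apply, smul_eq_mul, smul_eq_mul]
  by_cases h1 : j = k
  · subst h1
    simp [ee, Pi.single_apply, hkl]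
    ring
  · by_cases h2 : j = l
    · subst h2
      simp [ee, Pi.single_apply, hkl.symm]
      ring
    · simp [ee, Pi.single_apply, h1, h2]

theorem c3_apply_vec {k l m : ι} (hkl : k ≠ l) (hkm : k ≠ m) (hlm : l ≠ m) (x : ι → F) :
    c3 F k l m x = x + (x m - x k) • ee F k + (x k - x l) • ee F l + (x l - x m) • ee F m := by
  have key : ∀ j, c3 F k l m x j = if j = k then x m else if j = l then x k else if j = m then x l else x j := by
    intro j
    rw [c3, pm_apply]
    split_ifs with h1 h2 h3
    · congr 1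
      rw [Equiv.Perm.inv_eq_iff_eq, cyc_apply_right, h1]
    · congr 1
      rw [Equiv.Perm.inv_eq_iff_eq, cyc_apply_left hkl hkm, h2]
    · congr 1
      rw [Equiv.Perm.inv_eq_iff_eq, cyc_apply_mid hkm hlm, h3]
    · congr 1
      rw [Equiv.Perm.inv_eq_iff_eq, cyc_apply_other h1 h2 h3]
  funext j
  rw [key]
  simp only [Pi.add_apply, Pi.smul_apply, smul_eq_mul, ee, Pi.single_apply]
  split_ifs with h1 h2 h3 h4 h5 h6
  all_goals first
    | (subst h1; exact absurd ‹_› hkl)
    | (subst h1; exact absurd ‹_› hkm)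
    | (subst h2; exact absurd ‹_› hlm)
    | skip
  all_goals (try subst_vars)
  all_goals (try ring)
  all_goals (try simp_all)

/-- `κ` permutes the lines of the frame `f` -/
def Perms (f : ι → ι → F) (κ : (ι → F) ≃ₗ[F] (ι → F)) : Prop :=
  ∀ a, ∃ b, κ (f a) = f b ∨ κ (f a) = - f b

theorem Perms.mul {f : ι → ι → F} {κ τ : (ι → F) ≃ₗ[F] (ι → F)} (h : Perms f κ) (h' : Perms f τ) :
    Perms f (κ * τ) := by
  intro a
  obtain ⟨b, hb⟩ := h' a
  obtain ⟨c, hc⟩ := h b
  refine ⟨c, ?_⟩
  rw [LinearEquiv.mul_apply]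
  rcases hb with hb | hb <;> rcases hc with hc | hc <;> rw [hb] <;> simp [hc]

theorem perms_trichotomy {f : ι → ι → F} (hf : ∀ a b, f a ⬝ᵥ f b = if a = b then 1 else 0)
    {κ : (ι → F) ≃ₗ[F] (ι → F)} (h : Perms f κ) (a : ι) :
    κ (f a) = f a ∨ κ (f a) = - f a ∨ f a ⬝ᵥ κ (f a) = 0 := by
  obtain ⟨b, hb⟩ := h a
  by_cases hab : a = b
  · subst hab
    rcases hb with hb | hb
    · exact Or.inl hb
    · exact Or.inr (Or.inl hb)
  · right; right
    rcases hb with hb | hb <;> rw [hb]
    · rw [hf, if_neg hab]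
    · rw [dotProduct_neg, hf, if_neg hab, neg_zero]

theorem sq_eq_one_iff_of_ne_zero' {x : F} (h : x ^ 2 = 1) : x = 1 ∨ x = -1 := by
  have : (x - 1) * (x + 1) = 0 := by linear_combination h
  rcases mul_eq_zero.1 this with h | h
  · left; linear_combination h
  · right; linear_combination h

theorem exists_not_mem_of_card {J : Finset ι} {n : ℕ} (hJ : J.card + n < Fintype.card ι) (T : Finset ι)
    (hT : T.card ≤ n) : ∃ k, k ∉ J ∧ k ∉ T := by
  have : (J ∪ T).card < Fintype.card ι := lt_of_le_of_lt (Finset.card_union_le J T) (by omega)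
  obtain ⟨k, hk⟩ := Finset.exists_mem_notMem_of_card_lt_card (s := J ∪ T) (t := Finset.univ)
    (by rwa [Finset.card_univ])
  refine ⟨k, ?_, ?_⟩ <;> intro h <;> apply hk.2 <;> simp [h]

theorem frame_core (h2 : (2 : F) ≠ 0) (f : ι → ι → F) (hf : ∀ a b, f a ⬝ᵥ f b = if a = b then 1 else 0)
    (J : Finset ι) (hJ : J.card + 5 ≤ Fintype.card ι)
    (hs : ∀ k l, k ∉ J → l ∉ J → k ≠ l → Perms f (sg F {k, l}))
    (hc : ∀ k l m, k ∉ J → l ∉ J → m ∉ J → k ≠ l → k ≠ m → l ≠ m → Perms f (c3 F k l m)) (a : ι) :
    (∃ k, k ∉ J ∧ (f a = ee F k ∨ f a = - ee F k)) ∨ (∀ k, k ∉ J → f a k = 0) := by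
  by_cases h0 : ∀ k, k ∉ J → f a k = 0
  · exact Or.inr h0
  left
  push Not at h0
  obtain ⟨k, hkJ, hk0⟩ := h0
  have norm1 : f a ⬝ᵥ f a = 1 := by rw [hf, if_pos rfl]
  -- the trichotomy for sign changes at two coordinates
  have tri : ∀ k l, k ∉ J → l ∉ J → k ≠ l → f a k ≠ 0 →
      (∀ c, c ≠ k → c ≠ l → f a c = 0) ∨ 2 * ((f a k) ^ 2 + (f a l) ^ 2) = 1 := by
    intro k l hk hl hkl hak
    rcases perms_trichotomy hf (hs k l hk hl hkl) a with h | h | h
    · exfalso
      have := congrFun h k
      rw [sg_apply, if_pos (by simp)] at this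
      apply hak
      have h' : 2 * f a k = 0 := by linear_combination -this
      exact (mul_eq_zero.1 h').resolve_left h2
    · left
      intro c hck hcl
      have := congrFun h c
      rw [sg_apply, if_neg (by simp [hck, hcl]), Pi.neg_apply] at this
      have h' : 2 * f a c = 0 := by linear_combination this
      exact (mul_eq_zero.1 h').resolve_left h2
    · right
      rw [sg_pair_apply hkl, dotProduct_sub, dotProduct_sub, dotProduct_smul, dotProduct_smul,
        dot_ee, dot_ee, norm1, smul_eq_mul, smul_eq_mul] at h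
      linear_combination -h
  by_cases hA : ∃ l, l ∉ J ∧ l ≠ k ∧ ∀ c, c ≠ k → c ≠ l → f a c = 0
  · -- case A
    obtain ⟨l, hlJ, hlk, hsupp⟩ := hA
    by_cases hl0 : f a l = 0
    · -- f a = ± e_k
      refine ⟨k, hkJ, ?_⟩
      have e1 : f a = (f a k) • ee F k := by
        funext c
        rw [Pi.smul_apply, smul_eq_mul]
        by_cases hck : c = k
        · subst hck; simp [ee]
        · by_cases hcl : c = l
          · subst hcl; rw [hl0]; simp [ee, Pi.single_apply, hck]
          · rw [hsupp c hck hcl]; simp [ee, Pi.single_apply, hck]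
      have e2 : (f a k) ^ 2 = 1 := by
        have := norm1
        rw [e1, dotProduct_smul, dot_ee] at this
        simp only [Pi.smul_apply, smul_eq_mul] at this
        have h3 : (ee F k : ι → F) k = 1 := by simp [ee]
        rw [h3] at this
        linear_combination this
      rcases sq_eq_one_iff_of_ne_zero' e2 with h | h
      · left; rw [e1, h, one_smul]
      · right; rw [e1, h, neg_smul, one_smul]
    · exfalso
      obtain ⟨m, hmJ, hmT⟩ := exists_not_mem_of_card (J := J) (n := 2) (by omega) ({k, l} : Finset ι)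
        (Finset.card_le_two)
      obtain ⟨r, hrJ, hrT⟩ := exists_not_mem_of_card (J := J) (n := 3) (by omega) ({k, l, m} : Finset ι)
        (Finset.card_le_three)
      simp only [Finset.mem_insert, Finset.mem_singleton, not_or] at hmT hrT
      have hm0 : f a m = 0 := hsupp m hmT.1 hmT.2
      have e1 : 2 * (f a k) ^ 2 = 1 := by
        rcases tri k m hkJ hmJ (Ne.symm hmT.1) hk0 with h | h
        · exact absurd (h l hlk (Ne.symm hmT.2)) hl0
        · rw [hm0] at h; linear_combination h
      have hP := hc l m r hlJ hmJ hrJ (Ne.symm hmT.2) (Ne.symm hrT.2.1) (Ne.symm hrT.2.2)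
      have hr0 : f a r = 0 := hsupp r hrT.1 hrT.2.1
      have ev := c3_apply_vec (Ne.symm hmT.2) (Ne.symm hrT.2.1) (Ne.symm hrT.2.2) (f a)
      have evm : c3 F l m r (f a) m = f a l := by
        rw [ev]
        simp [ee, Pi.single_apply, hmT.2, Ne.symm hrT.2.2]
      rcases perms_trichotomy hf hP a with h | h | h
      · rw [h, hm0] at evm; exact hl0 evm.symm
      · rw [h, Pi.neg_apply, hm0, neg_zero] at evm; exact hl0 evm.symm
      · rw [ev, dotProduct_add, dotProduct_add, dotProduct_add, dotProduct_smul, dotProduct_smul,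
          dotProduct_smul, dot_ee, dot_ee, dot_ee, norm1, hm0, hr0] at h
        simp only [smul_eq_mul] at h
        -- 1 - (f a l)^2 = 0 ; and (f a k)^2 + (f a l)^2 = 1
        have e3 : (f a k) ^ 2 + (f a l) ^ 2 = 1 := by
          have hh := norm1
          have e4 : f a = (f a k) • ee F k + (f a l) • ee F l := by
            funext c
            rw [Pi.add_apply, Pi.smul_apply, Pi.smul_apply, smul_eq_mul, smul_eq_mul]
            by_cases hck : c = k
            · subst hck; simp [ee, Pi.single_apply, Ne.symm hlk]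
            · by_cases hcl : c = l
              · subst hcl; simp [ee, Pi.single_apply, hck]
              · rw [hsupp c hck hcl]; simp [ee, Pi.single_apply, hck, hcl]
          conv_lhs at hh => rw [e4]
          rw [add_dotProduct, smul_dotProduct, smul_dotProduct, ee_dot, ee_dot] at hh
          simp only [Pi.add_apply, Pi.smul_apply, smul_eq_mul, ee, Pi.single_apply, hlk, Ne.symm hlk,
            if_true, if_false] at hh
          linear_combination hh
        have e5 : (f a k) ^ 2 = 0 := by linear_combination h + e3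
        exact hk0 (pow_eq_zero_iff (two_ne_zero) |>.1 e5)
  · -- case B
    exfalso
    push Not at hA
    have hB : ∀ l, l ∉ J → l ≠ k → 2 * ((f a k) ^ 2 + (f a l) ^ 2) = 1 := by
      intro l hl hlk
      rcases tri k l hkJ hl (Ne.symm hlk) hk0 with h | h
      · obtain ⟨c, hc1, hc2, hc3⟩ := hA l hl hlk
        exact absurd (h c hc1 hc2) hc3
      · exact h
    obtain ⟨l, hlJ, hlT⟩ := exists_not_mem_of_card (J := J) (n := 1) (by omega) ({k} : Finset ι) (by simp)
    obtain ⟨m, hmJ, hmT⟩ := exists_not_mem_of_card (J := J) (n := 2) (by omega) ({k, l} : Finset ι)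
      (Finset.card_le_two)
    obtain ⟨r, hrJ, hrT⟩ := exists_not_mem_of_card (J := J) (n := 3) (by omega) ({k, l, m} : Finset ι)
      (Finset.card_le_three)
    obtain ⟨s, hsJ, hsT⟩ := exists_not_mem_of_card (J := J) (n := 4) (by omega) ({k, l, m, r} : Finset ι)
      (Finset.card_le_four)
    simp only [Finset.mem_insert, Finset.mem_singleton, not_or] at hlT hmT hrT hsT
    have Bl := hB l hlJ hlT
    have Bm := hB m hmJ hmT.1
    have Br := hB r hrJ hrT.1
    have Bs := hB s hsJ hsT.1
    by_cases hl0 : f a l = 0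
    · -- all other coordinates outside J vanish, f a k ^2 = 1/2
      have e1 : 2 * (f a k) ^ 2 = 1 := by rw [hl0] at Bl; linear_combination Bl
      have zero_of : ∀ z, 2 * ((f a k) ^ 2 + z ^ 2) = 1 → z = 0 := by
        intro z hz
        have : 2 * z ^ 2 = 0 := by linear_combination hz - e1
        exact pow_eq_zero_iff (two_ne_zero) |>.1 ((mul_eq_zero.1 this).resolve_left h2)
      have hm0 := zero_of _ Bm
      have hP := hc k l m hkJ hlJ hmJ (Ne.symm hlT) (Ne.symm hmT.1) (Ne.symm hmT.2)
      have ev := c3_apply_vec (Ne.symm hlT) (Ne.symm hmT.1) (Ne.symm hmT.2) (f a)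
      have evk : c3 F k l m (f a) k = f a m := by
        rw [ev]
        simp [ee, Pi.single_apply, Ne.symm hlT, Ne.symm hmT.1]
      rcases perms_trichotomy hf hP a with h | h | h
      · rw [h, hm0] at evk; exact hk0 evk
      · rw [h, Pi.neg_apply, hm0] at evk
        exact hk0 (neg_eq_zero.1 evk)
      · rw [ev, dotProduct_add, dotProduct_add, dotProduct_add, dotProduct_smul, dotProduct_smul,
          dotProduct_smul, dot_ee, dot_ee, dot_ee, norm1, hm0, hl0] at h
        simp only [smul_eq_mul] at h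
        -- 1 - (f a k)^2 = 0, so 1/2 = 0
        have : (1 : F) = 0 := by linear_combination 2 * h + e1
        exact one_ne_zero this
    · -- all squares are 1/4
      have elm : 2 * ((f a l) ^ 2 + (f a m) ^ 2) = 1 := by
        rcases tri l m hlJ hmJ (Ne.symm hmT.2) hl0 with h | h
        · exact absurd (h k (Ne.symm hlT) (Ne.symm hmT.1)) hk0
        · exact h
      have q : 4 * (f a k) ^ 2 = 1 := by linear_combination Bl + Bm - elm
      have hPP := (hs k l hkJ hlJ (Ne.symm hlT)).mul (hs m r hmJ hrJ (Ne.symm hrT.2.2))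
      have ev : (sg F {k, l} * sg F {m, r}) (f a) = f a - (2 * f a k) • ee F k - (2 * f a l) • ee F l
          - (2 * f a m) • ee F m - (2 * f a r) • ee F r := by
        rw [LinearEquiv.mul_apply, sg_pair_apply (Ne.symm hrT.2.2), sg_pair_apply (Ne.symm hlT)]
        have z1 : (f a - (2 * f a m) • ee F m - (2 * f a r) • ee F r) k = f a k := by
          simp [ee, Pi.single_apply, Ne.symm hmT.1, Ne.symm hrT.1]
        have z2 : (f a - (2 * f a m) • ee F m - (2 * f a r) • ee F r) l = f a l := by
          simp [ee, Pi.single_apply, Ne.symm hmT.2, Ne.symm hrT.2.1]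
        rw [z1, z2]
        abel
      rcases perms_trichotomy hf hPP a with h | h | h
      · have := congrFun h k
        rw [ev] at this
        simp [ee, Pi.single_apply, Ne.symm hlT, Ne.symm hmT.1, Ne.symm hrT.1] at this
        rcases this with h' | h'
        · exact h2 h'
        · exact hk0 h'
      · have := congrFun h s
        rw [ev] at this
        simp [ee, Pi.single_apply, hsT.1, hsT.2.1, hsT.2.2.1, hsT.2.2.2] at this
        have hs0 : f a s = 0 := by
          have h' : 2 * f a s = 0 := by linear_combination this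
          exact (mul_eq_zero.1 h').resolve_left h2
        rw [hs0] at Bs
        have : (1 : F) = 0 := by linear_combination -2 * Bs + q
        exact one_ne_zero this
      · rw [ev, dotProduct_sub, dotProduct_sub, dotProduct_sub, dotProduct_sub, dotProduct_smul,
          dotProduct_smul, dotProduct_smul, dotProduct_smul, dot_ee, dot_ee, dot_ee, dot_ee, norm1] at h
        simp only [smul_eq_mul] at h
        have : (1 : F) = 0 := by linear_combination -h - Bl - Bm - Br + q
        exact one_ne_zero this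

end Cfsg.Agent.H928
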