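import Cfsg.Agent.H928.FrameD

/-!
# Orthogonal frames V: lemmas F3, F5: a rigid group is monomial
-/

set_option autoImplicit false
set_option linter.unusedSectionVars false
set_option linter.unusedSimpArgs false
set_option linter.unusedVariables false

namespace Cfsg.Agent.H928

open Matrix

theorem inv_mul_pow {G : Type*} [Group G] {a b : G} (ha : a * a = 1) (hb : b * b = 1) (n : ℕ) :
    a * (a * b) ^ n = ((a * b) ^ n)⁻¹ * a := by
  have ha' : a⁻¹ = a := by rw [inv_eq_iff_mul_eq_one, ha]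
  have hb' : b⁻¹ = b := by rw [inv_eq_iff_mul_eq_one, hb]
  have h1 : a * (a * b) * a⁻¹ = (a * b)⁻¹ := by
    rw [_root_.mul_inv_rev, ha', hb', ← mul_assoc, ha, one_mul]
  have h2 : a * (a * b) ^ n * a⁻¹ = ((a * b) ^ n)⁻¹ := by
    rw [← conj_pow, h1, inv_pow]
  rw [← h2]; group

theorem dihedral_even {G : Type*} [Group G] (X : Subgroup G) {a b : G} (haX : a ∈ X) (hbX : b ∈ X)
    (ha : a * a = 1) (hb : b * b = 1) {k : ℕ} (hk : (a * b) ^ (k + k) = 1) (hk1 : (a * b) ^ k ≠ 1) :
    ∃ z g, z ≠ 1 ∧ z * z = 1 ∧ Commute z a ∧ Commute z b ∧ g ∈ X ∧ z ∈ X ∧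
      (a * z = g * a * g⁻¹ ∨ a * z = g * b * g⁻¹) := by
  have key := inv_mul_pow ha hb
  set c := a * b with hc
  have hcX : c ∈ X := X.mul_mem haX hbX
  have hzz : c ^ k * c ^ k = 1 := by rw [← pow_add, hk]
  have hza : Commute (c ^ k) a := by
    have h1 := key k
    have h2 : (c ^ k)⁻¹ = c ^ k := by rw [inv_eq_iff_mul_eq_one, hzz]
    rw [h2] at h1
    exact h1.symm
  have hzc : Commute (c ^ k) c := (Commute.refl c).pow_left k
  have hb' : b = a * c := by rw [hc, ← mul_assoc, ha, one_mul]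
  have hzb : Commute (c ^ k) b := by rw [hb']; exact hza.mul_right hzc
  rcases Nat.even_or_odd' k with ⟨j, hj | hj⟩
  · refine ⟨c ^ k, (c ^ j)⁻¹, hk1, hzz, hza, hzb, X.inv_mem (X.pow_mem hcX j), X.pow_mem hcX k, Or.inl ?_⟩
    rw [hj, two_mul, pow_add, ← mul_assoc, key j, inv_inv]
  · refine ⟨c ^ k, (c ^ j)⁻¹, hk1, hzz, hza, hzb, X.inv_mem (X.pow_mem hcX j), X.pow_mem hcX k, Or.inr ?_⟩
    have e : c ^ k = c ^ j * (c * c ^ j) := by
      rw [hj, ← pow_succ', ← pow_add]; congr 1; omega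
    rw [e, ← mul_assoc, key j, inv_inv, hb']
    group

theorem dihedral_odd {G : Type*} [Group G] {a b : G} (ha : a * a = 1) (hb : b * b = 1)
    (hodd : Odd (orderOf (a * b))) : ∃ j : ℕ,
      ((a * b) ^ j * a * ((a * b) ^ j)⁻¹) * a * ((a * b) ^ j * a * ((a * b) ^ j)⁻¹)⁻¹ = b := by
  have key := inv_mul_pow ha hb
  obtain ⟨k, hk⟩ := hodd
  have hc1 : (a * b) ^ (2 * k + 1) = 1 := by rw [← hk, pow_orderOf_eq_one]
  have hab : b = (a * b)⁻¹ * a := by
    rw [_root_.mul_inv_rev]
    have hb' : b⁻¹ = b := by rw [inv_eq_iff_mul_eq_one, hb]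
    rw [hb']; group
  set c := a * b with hc
  refine ⟨k * (k + 1), ?_⟩
  have e1 : ∀ j : ℕ, c ^ j * a * (c ^ j)⁻¹ = c ^ (j + j) * a := by
    intro j
    have h1 := key j
    have h2 : a * (c ^ j)⁻¹ = c ^ j * a := by
      have h3 : a * (a * c ^ j) * a = a * ((c ^ j)⁻¹ * a) * a := by rw [h1]
      calc a * (c ^ j)⁻¹ = a * (c ^ j)⁻¹ * (a * a) := by rw [ha, mul_one]
        _ = a * ((c ^ j)⁻¹ * a) * a := by group
        _ = a * (a * c ^ j) * a := by rw [← h3]
        _ = (a * a) * c ^ j * a := by group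
        _ = c ^ j * a := by rw [ha, one_mul]
    rw [mul_assoc, h2, pow_add]; group
  have e2 : c ^ (k * (k + 1) + k * (k + 1)) = c ^ k := by
    have : k * (k + 1) + k * (k + 1) = (2 * k + 1) * k + k := by ring
    rw [this, pow_add, pow_mul, hc1, one_pow, one_mul]
  have e3 : c ^ (k + k) = c⁻¹ := by
    rw [eq_inv_iff_mul_eq_one, ← pow_succ, ← hc1]; congr 1; omega
  rw [e1, e2]
  have ha' : a⁻¹ = a := by rw [inv_eq_iff_mul_eq_one, ha]
  calc c ^ k * a * a * (c ^ k * a)⁻¹ = c ^ k * (a * a) * (a⁻¹ * (c ^ k)⁻¹) := by group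
    _ = c ^ k * a * (c ^ k)⁻¹ := by rw [ha, ha', mul_one]; group
    _ = b := by rw [e1 k, e3, ← hab]

variable {ι : Type*} [Fintype ι] [DecidableEq ι] {F : Type*} [Field F]

variable {X : Subgroup ((ι → F) ≃ₗ[F] (ι → F))}

theorem conj_sg_mul_self (y : (ι → F) ≃ₗ[F] (ι → F)) (S : Finset ι) :
    (y * sg F S * y⁻¹) * (y * sg F S * y⁻¹) = 1 := by
  have e : (y * sg F S * y⁻¹) * (y * sg F S * y⁻¹) = y * (sg F S * sg F S) * y⁻¹ := by group
  rw [e, sg_mul_self, mul_one, mul_inv_cancel]

theorem card_symmDiff_pairs {A B : Finset ι} (hA : A.card = 2) (hB : B.card = 2) :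
    (symmDiff A B).card = 0 ∨ (symmDiff A B).card = 2 ∨ (symmDiff A B).card = 4 := by
  have h1 : (symmDiff A B).card = (A \ B).card + (B \ A).card := by
    rw [symmDiff_def, Finset.sup_eq_union, Finset.card_union_of_disjoint disjoint_sdiff_sdiff]
  have h2 := Finset.card_sdiff_add_card_inter A B
  have h3 := Finset.card_sdiff_add_card_inter B A
  rw [Finset.inter_comm] at h3
  omega

theorem Rig.F3 (R : Rig X) (hfin : ∀ g ∈ X, IsOfFinOrder g) {y w : (ι → F) ≃ₗ[F] (ι → F)} (hy : y ∈ X)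
    (hw : w ∈ X) {p q r s : ι} (hpq : p ≠ q) (hrs : r ≠ s) (hM : ¬ Mono (y⁻¹ * w)) :
    Odd (orderOf ((y * sg F {p, q} * y⁻¹) * (w * sg F {r, s} * w⁻¹))) := by
  classical
  by_contra hodd
  rw [Nat.not_odd_iff_even] at hodd
  set a := y * sg F {p, q} * y⁻¹ with ha
  set b := w * sg F {r, s} * w⁻¹ with hb
  have haX : a ∈ X := X.mul_mem (X.mul_mem hy (R.hsg p q hpq)) (X.inv_mem hy)
  have hbX : b ∈ X := X.mul_mem (X.mul_mem hw (R.hsg r s hrs)) (X.inv_mem hw)
  have haa : a * a = 1 := conj_sg_mul_self _ _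
  have hbb : b * b = 1 := conj_sg_mul_self _ _
  obtain ⟨k, hk⟩ := hodd
  have hpos : 0 < orderOf (a * b) := (hfin _ (X.mul_mem haX hbX)).orderOf_pos
  have hk1 : (a * b) ^ k ≠ 1 := by
    apply pow_ne_one_of_lt_orderOf <;> omega
  obtain ⟨z, g, hz1, hzz, hza, hzb, hg, hzX, hor⟩ := dihedral_even X haX hbX haa hbb
    (by rw [← hk, pow_orderOf_eq_one]) hk1
  have hcomm : Commute a (a * z) := (Commute.refl a).mul_right hza.symm
  -- `y⁻¹ (a z) y` is a sign change on two coordinates
  obtain ⟨K, hK2, hK⟩ : ∃ K : Finset ι, K.card = 2 ∧ y⁻¹ * (a * z) * y = sg F K := by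
    rcases hor with h | h
    · have e : a * z = (g * y) * sg F {p, q} * (g * y)⁻¹ := by rw [h, ha]; group
      have hm : Mono (y⁻¹ * (g * y)) := R.F4 hy (X.mul_mem hg hy) hpq hpq (e ▸ hcomm)
      obtain ⟨σ, hσ⟩ := hm
      refine ⟨Finset.image σ {p, q}, ?_, ?_⟩
      · rw [Finset.card_image_of_injective _ σ.injective, Finset.card_pair hpq]
      · rw [← mono_mul_sg hσ, e]; group
    · have e : a * z = (g * w) * sg F {r, s} * (g * w)⁻¹ := by rw [h, hb]; group
      have hm : Mono (y⁻¹ * (g * w)) := R.F4 hy (X.mul_mem hg hw) hpq hrs (e ▸ hcomm)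
      obtain ⟨σ, hσ⟩ := hm
      refine ⟨Finset.image σ {r, s}, ?_, ?_⟩
      · rw [Finset.card_image_of_injective _ σ.injective, Finset.card_pair hrs]
      · rw [← mono_mul_sg hσ, e]; group
  have hz : z = y * sg F (symmDiff {p, q} K) * y⁻¹ := by
    rw [← sg_mul, ← hK]
    have h5 : y * (sg F {p, q} * (y⁻¹ * (a * z) * y)) * y⁻¹ = a * (a * z) := by rw [ha]; group
    rw [h5, ← mul_assoc, haa, one_mul]
  rcases card_symmDiff_pairs (Finset.card_pair hpq) hK2 with h0 | h0 | h0
  · rw [Finset.card_eq_zero] at h0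
    rw [h0, sg_empty, mul_one, mul_inv_cancel] at hz
    exact hz1 hz
  · rw [Finset.card_eq_two] at h0
    obtain ⟨m, n, hmn, h0⟩ := h0
    rw [h0] at hz
    exact hM (R.F4 hy hw hmn hrs (hz ▸ hzb))
  · apply hM
    apply R.F2 (X.mul_mem (X.inv_mem hy) hw) hrs h0
    rw [hz] at hzb
    have h3 : Commute (w * sg F {r, s} * w⁻¹) (y * sg F (symmDiff {p, q} K) * y⁻¹) := hzb.symm
    have h4 : Commute (y⁻¹ * (w * sg F {r, s} * w⁻¹) * y) (sg F (symmDiff {p, q} K)) := by
      have := (commute_conj_iff.1 h3.symm).symm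
      exact this
    have e : y⁻¹ * w * sg F {r, s} * (y⁻¹ * w)⁻¹ = y⁻¹ * (w * sg F {r, s} * w⁻¹) * y := by group
    rw [e]; exact h4

/-- the involution conjugating `t_ij` to `y t_kl y⁻¹` -/
theorem Rig.exists_inv (R : Rig X) (hfin : ∀ g ∈ X, IsOfFinOrder g) {y : (ι → F) ≃ₗ[F] (ι → F)} (hy : y ∈ X)
    (hM : ¬ Mono y) {i j k l : ι} (hij : i ≠ j) (hkl : k ≠ l) :
    ∃ g ∈ X, ¬ Mono (g * sg F {i, j} * g⁻¹) ∧
      (g * sg F {i, j} * g⁻¹) * sg F {i, j} * (g * sg F {i, j} * g⁻¹)⁻¹ = y * sg F {k, l} * y⁻¹ := by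
  have h1 := R.F3 hfin X.one_mem hy hij hkl (by simpa using hM)
  rw [one_mul, inv_one, mul_one] at h1
  obtain ⟨n, hn⟩ := dihedral_odd (sg_mul_self _) (conj_sg_mul_self _ _) h1
  refine ⟨(sg F {i, j} * (y * sg F {k, l} * y⁻¹)) ^ n, ?_, ?_, hn⟩
  · exact X.pow_mem (X.mul_mem (R.hsg i j hij) (X.mul_mem (X.mul_mem hy (R.hsg k l hkl)) (X.inv_mem hy))) n
  · intro h
    apply hM
    apply R.F1 hy hkl
    rw [← hn]
    exact (h.mul (sg_mono _)).mul h.inv

theorem apply_conj_sg_sub_mem {y : (ι → F) ≃ₗ[F] (ι → F)} (hy : IsIso y) {p q : ι} (hpq : p ≠ q) (x : ι → F) :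
    (y * sg F {p, q} * y⁻¹) x - x ∈ Submodule.span F ({y (ee F p), y (ee F q)} : Set (ι → F)) := by
  rw [conj_sg_apply hy hpq]
  have e1 : x - (2 * (x ⬝ᵥ y (ee F p))) • y (ee F p)
    - (2 * (x ⬝ᵥ y (ee F q))) • y (ee F q) - x =
    (- (2 * (x ⬝ᵥ y (ee F p)))) • y (ee F p) + (- (2 * (x ⬝ᵥ y (ee F q)))) • y (ee F q) := by
    rw [neg_smul, neg_smul]; abel
  rw [e1]
  exact Submodule.add_mem _ (Submodule.smul_mem _ _ (Submodule.subset_span (by simp)))
    (Submodule.smul_mem _ _ (Submodule.subset_span (by simp)))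

theorem conj_sg_apply_mem {y : (ι → F) ≃ₗ[F] (ι → F)} (hy : IsIso y) {p q : ι} (hpq : p ≠ q) {x : ι → F}
    (hx : x ∈ Submodule.span F ({y (ee F p), y (ee F q)} : Set (ι → F))) :
    (y * sg F {p, q} * y⁻¹) x = - x := by
  obtain ⟨α, β, rfl⟩ := Submodule.mem_span_pair.1 hx
  rw [LinearEquiv.mul_apply, LinearEquiv.mul_apply]
  have e : y⁻¹ (α • y (ee F p) + β • y (ee F q)) = α • ee F p + β • ee F q := by
    rw [← map_smul, ← map_smul, ← map_add, ← LinearEquiv.mul_apply, inv_mul_cancel]; rfl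
  rw [e, map_add, map_smul, map_smul, sg_ee_mem (by simp), sg_ee_mem (by simp)]
  simp only [map_add, map_smul, map_neg, smul_neg]
  abel

theorem mono_pow_apply {b : (ι → F) ≃ₗ[F] (ι → F)} {β : Equiv.Perm ι}
    (hβ : ∀ i, b (ee F i) = ee F (β i) ∨ b (ee F i) = - ee F (β i)) (n : ℕ) (i : ι) :
    (b ^ n) (ee F i) = ee F ((β ^ n) i) ∨ (b ^ n) (ee F i) = - ee F ((β ^ n) i) := by
  induction n generalizing i with
  | zero => left; rfl
  | succ n ih =>
    rw [pow_succ, LinearEquiv.mul_apply, pow_succ, Equiv.Perm.mul_apply]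
    rcases hβ i with h | h <;> rw [h]
    · exact ih (β i)
    · rw [map_neg]
      rcases ih (β i) with h' | h' <;> rw [h']
      · right; rfl
      · left; rw [neg_neg]

theorem perm_pow_eq_one (h2 : (2 : F) ≠ 0) {b : (ι → F) ≃ₗ[F] (ι → F)} {β : Equiv.Perm ι}
    (hβ : ∀ i, b (ee F i) = ee F (β i) ∨ b (ee F i) = - ee F (β i)) {n : ℕ} (hn : b ^ n = 1) (i : ι) :
    (β ^ n) i = i := by
  symm
  apply ee_inj_or h2 (F := F)
  have h := mono_pow_apply hβ n i
  rw [hn] at h
  exact h

/-- **Part I**: a rigid group is monomial. -/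
theorem Rig.mono_all (R : Rig X) (hfin : ∀ g ∈ X, IsOfFinOrder g) : ∀ x ∈ X, Mono x := by
  classical
  intro x hx
  by_contra hM
  have hn := R.card
  have h2 := R.two
  obtain ⟨i, _, _⟩ := exists_not_mem_of_card (J := (∅ : Finset ι)) (n := 0) (by rw [Finset.card_empty]; omega)
    (∅ : Finset ι) (by simp)
  obtain ⟨j, _, hj⟩ := exists_not_mem_of_card (J := (∅ : Finset ι)) (n := 1) (by rw [Finset.card_empty]; omega)
    ({i} : Finset ι) (by simp)
  obtain ⟨k, _, hk⟩ := exists_not_mem_of_card (J := (∅ : Finset ι)) (n := 2) (by rw [Finset.card_empty]; omega)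
    ({i, j} : Finset ι) (Finset.card_le_two)
  obtain ⟨l, _, hl⟩ := exists_not_mem_of_card (J := (∅ : Finset ι)) (n := 3) (by rw [Finset.card_empty]; omega)
    ({i, j, k} : Finset ι) (Finset.card_le_three)
  simp only [Finset.mem_insert, Finset.mem_singleton, not_or] at hj hk hl
  have hij : i ≠ j := Ne.symm hj
  have hik : i ≠ k := Ne.symm hk.1
  have hjk : j ≠ k := Ne.symm hk.2
  have hil : i ≠ l := Ne.symm hl.1
  have hjl : j ≠ l := Ne.symm hl.2.1
  have hkl : k ≠ l := Ne.symm hl.2.2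
  obtain ⟨g0, hg0, hM0, hs0⟩ := R.exists_inv hfin hx hM hij hij
  have hI0 := R.iso g0 hg0
  have hMg0 : ¬ Mono g0 := fun h => hM0 ((h.mul (sg_mono _)).mul h.inv)
  have hs0X : g0 * sg F {i, j} * g0⁻¹ ∈ X := X.mul_mem (X.mul_mem hg0 (R.hsg i j hij)) (X.inv_mem hg0)
  obtain ⟨g, hg, hM1, hs1⟩ := R.exists_inv hfin hs0X hM0 hij hkl
  have hIg := R.iso g hg
  have hs00 := conj_sg_mul_self g0 ({i, j} : Finset ι)
  have hss := conj_sg_mul_self g ({i, j} : Finset ι)
  have hsX : g * sg F {i, j} * g⁻¹ ∈ X := X.mul_mem (X.mul_mem hg (R.hsg i j hij)) (X.inv_mem hg)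
  have hW0 : ∀ z, (g0 * sg F {i, j} * g0⁻¹) z - z ∈ Submodule.span F ({g0 (ee F i), g0 (ee F j)} : Set (ι → F)) :=
    apply_conj_sg_sub_mem hI0 hij
  have hW1 : ∀ z, (g * sg F {i, j} * g⁻¹) z - z ∈ Submodule.span F ({g (ee F i), g (ee F j)} : Set (ι → F)) :=
    apply_conj_sg_sub_mem hIg hij
  have hW0n : ∀ z, z ∈ Submodule.span F ({g0 (ee F i), g0 (ee F j)} : Set (ι → F)) →
      (g0 * sg F {i, j} * g0⁻¹) z = - z := fun z hz => conj_sg_apply_mem hI0 hij hz
  have hW1n : ∀ z, z ∈ Submodule.span F ({g (ee F i), g (ee F j)} : Set (ι → F)) →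
      (g * sg F {i, j} * g⁻¹) z = - z := fun z hz => conj_sg_apply_mem hIg hij hz
  have hf0 := finrank_span_pair_le (g0 (ee F i)) (g0 (ee F j))
  have hf1 := finrank_span_pair_le (g (ee F i)) (g (ee F j))
  have hodd' : ¬ Mono (g0⁻¹ * g) → Odd (orderOf ((g0 * sg F {i, j} * g0⁻¹) * (g * sg F {i, j} * g⁻¹))) :=
    fun h => R.F3 hfin hg0 hg hij hij h
  have hcf : Mono (g0⁻¹ * g) → ∃ K : Finset ι, K.card = 2 ∧
      (g0 * sg F {i, j} * g0⁻¹) * (g * sg F {i, j} * g⁻¹) = g0 * sg F (symmDiff {i, j} K) * g0⁻¹ := by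
    rintro ⟨σ, hσ⟩
    refine ⟨Finset.image σ {i, j}, ?_, ?_⟩
    · rw [Finset.card_image_of_injective _ σ.injective, Finset.card_pair hij]
    · rw [← sg_mul, ← mono_mul_sg hσ]; group
  generalize hW0' : Submodule.span F ({g0 (ee F i), g0 (ee F j)} : Set (ι → F)) = W0 at *
  generalize hW1' : Submodule.span F ({g (ee F i), g (ee F j)} : Set (ι → F)) = W1 at *
  have hdef0 : ∀ m n, m ≠ n → Mono (g0 * sg F {m, n} * g0⁻¹) → False :=
    fun m n hmn h => hMg0 (R.F1 hg0 hmn h)
  have hF2g0 : ∀ m n, m ≠ n → ∀ I : Finset ι, I.card = 4 → Commute (sg F {m, n}) (g0 * sg F I * g0⁻¹) → False := by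
    intro m n hmn I hI h
    apply hMg0
    rw [← mono_inv_iff]
    apply R.F2 (X.inv_mem hg0) hmn hI
    rw [inv_inv]
    exact (commute_conj_iff.1 h.symm).symm
  generalize hs0d : g0 * sg F {i, j} * g0⁻¹ = s0 at *
  generalize hs1d : g * sg F {i, j} * g⁻¹ = s at *
  have hs0inv : s0⁻¹ = s0 := by rw [inv_eq_iff_mul_eq_one, hs00]
  have hsinv : s⁻¹ = s := by rw [inv_eq_iff_mul_eq_one, hss]
  -- b
  have hbX : s0 * s ∈ X := X.mul_mem hs0X hsX
  have hbconj : (s0 * s) * sg F {i, j} * (s0 * s)⁻¹ = sg F {k, l} := by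
    have e : (s0 * s) * sg F {i, j} * (s0 * s)⁻¹ = s0 * (s * sg F {i, j} * s⁻¹) * s0⁻¹ := by group
    rw [e, hs1]
    have e' : s0 * (s0 * sg F {k, l} * s0⁻¹) * s0⁻¹ = (s0 * s0) * sg F {k, l} * (s0 * s0)⁻¹ := by group
    rw [e', hs00, one_mul, inv_one, mul_one]
  have hbM : Mono (s0 * s) := R.F1 hbX hij (by rw [hbconj]; exact sg_mono _)
  have hbI := R.iso _ hbX
  have hMb := hbM
  obtain ⟨β, hβ⟩ := hbM
  have himg : Finset.image β {i, j} = {k, l} := by
    apply sg_injective h2
    rw [← mono_mul_sg hβ, hbconj]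
  have hβi : β i = k ∨ β i = l := by
    have : β i ∈ Finset.image β {i, j} := Finset.mem_image_of_mem _ (by simp)
    rw [himg] at this
    simpa using this
  have hβj : β j = k ∨ β j = l := by
    have : β j ∈ Finset.image β {i, j} := Finset.mem_image_of_mem _ (by simp)
    rw [himg] at this
    simpa using this
  have hβi' : β i ≠ i := by
    rcases hβi with h | h <;> rw [h]
    · exact Ne.symm hik
    · exact Ne.symm hil
  have hβj' : β j ≠ j := by
    rcases hβj with h | h <;> rw [h]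
    · exact Ne.symm hjk
    · exact Ne.symm hjl
  have hne : ({i, j} : Finset ι) ≠ {k, l} := by
    intro h
    have : i ∈ ({k, l} : Finset ι) := by rw [← h]; simp
    simp only [Finset.mem_insert, Finset.mem_singleton] at this
    rcases this with h | h
    · exact hik h
    · exact hil h
  -- not a common frame
  have hodd : Odd (orderOf (s0 * s)) := by
    apply hodd'
    intro hm
    obtain ⟨K, hK2, hK⟩ := hcf hm
    rcases card_symmDiff_pairs (Finset.card_pair hij) hK2 with h0 | h0 | h0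
    · rw [Finset.card_eq_zero] at h0
      rw [h0, sg_empty, mul_one, mul_inv_cancel] at hK
      rw [hK, one_mul, inv_one, mul_one] at hbconj
      exact hne (sg_injective h2 hbconj)
    · rw [Finset.card_eq_two] at h0
      obtain ⟨m, n, hmn, h0⟩ := h0
      rw [h0] at hK
      exact hdef0 m n hmn (hK ▸ hMb)
    · apply hF2g0 i (β i) (Ne.symm hβi') _ h0
      rw [← hK]
      have hbb : (s0 * s) * (s0 * s) = 1 := by rw [hK]; exact conj_sg_mul_self _ _
      have hββ : β (β i) = i := by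
        have e1 : (s0 * s) ((s0 * s) (ee F i)) = ee F i := by
          rw [← LinearEquiv.mul_apply, hbb]; rfl
        symm
        apply ee_inj_or h2 (F := F)
        rw [← e1]
        rcases hβ i with h | h <;> rw [h]
        · exact hβ (β i)
        · rw [map_neg]
          rcases hβ (β i) with h' | h' <;> rw [h']
          · right; rfl
          · left; rw [neg_neg]
      have e2 := mono_mul_sg hβ ({i, β i} : Finset ι)
      rw [Finset.image_insert, Finset.image_singleton, hββ, Finset.pair_comm (β i) i] at e2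
      exact (mul_inv_eq_iff_eq_mul.1 e2).symm
  -- the fixed coordinates of `s0`
  set J0 : Finset ι := Finset.univ.filter (fun u => s0 (ee F u) ≠ ee F u) with hJ0
  have hs0I := R.iso s0 hs0X
  have hJ0card : Fintype.card ι ≤ J0.card + 1 := by
    by_contra hlt
    obtain ⟨u, huJ, _⟩ := exists_not_mem_of_card (J := J0) (n := 0) (by omega) (∅ : Finset ι) (by simp)
    obtain ⟨v, hvJ, hv⟩ := exists_not_mem_of_card (J := J0) (n := 1) (by omega) ({u} : Finset ι) (by simp)
    rw [Finset.mem_singleton] at hv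
    have fixof : ∀ u, u ∉ J0 → s0 (ee F u) = ee F u := by
      intro u hu
      by_contra h
      exact hu (Finset.mem_filter.2 ⟨Finset.mem_univ _, h⟩)
    apply hM0
    apply R.H s0 hs0X u v (Ne.symm hv)
    apply comm_sg_of_pm hs0I
    intro j hj
    simp only [Finset.mem_insert, Finset.mem_singleton] at hj
    rcases hj with rfl | rfl
    · exact Or.inl (fixof _ huJ)
    · exact Or.inl (fixof _ hvJ)
  have hbW : ∀ z, (s0 * s) z - z ∈ W0 ⊔ W1 := by
    intro z
    have e : (s0 * s) z - z = (s0 (s z) - s z) + (s z - z) := by rw [LinearEquiv.mul_apply]; abel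
    rw [e]
    exact Submodule.add_mem_sup (hW0 _) (hW1 _)
  have hsum := Submodule.finrank_sup_add_finrank_inf_eq W0 W1
  set Sb : Finset ι := Finset.univ.filter (fun u => (s0 * s) (ee F u) ≠ ee F u) with hSb
  obtain ⟨m, hm⟩ := hodd
  have hpow : (s0 * s) ^ (2 * m + 1) = 1 := by rw [← hm, pow_orderOf_eq_one]
  by_cases hinf : W0 ⊓ W1 = ⊥
  · have hsub : J0 ⊆ Sb := by
      intro u hu
      have hu' := (Finset.mem_filter.1 hu).2
      refine Finset.mem_filter.2 ⟨Finset.mem_univ _, fun h => hu' ?_⟩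
      have e1 : s (ee F u) = s0 (ee F u) := by
        have : s0 ((s0 * s) (ee F u)) = s0 (ee F u) := by rw [h]
        rw [← LinearEquiv.mul_apply, ← mul_assoc, hs00, one_mul] at this
        exact this
      have e2 : s0 (ee F u) - ee F u ∈ W0 ⊓ W1 := by
        refine Submodule.mem_inf.2 ⟨hW0 _, ?_⟩
        rw [← e1]; exact hW1 _
      rw [hinf, Submodule.mem_bot] at e2
      exact sub_eq_zero.1 e2
    have hββ : β (β i) ≠ i := by
      intro hββ
      have h3 := perm_pow_eq_one h2 hβ hpow i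
      have h4 : (β ^ 2) i = i := by rw [pow_two, Equiv.Perm.mul_apply, hββ]
      have h5 : ∀ m : ℕ, (β ^ (2 * m)) i = i := by
        intro m
        induction m with
        | zero => rfl
        | succ m ih => rw [Nat.mul_succ, pow_add, Equiv.Perm.mul_apply, h4, ih]
      rw [pow_succ', Equiv.Perm.mul_apply, h5 m] at h3
      exact hβi' h3
    have hβ3 : β i ≠ β (β i) := fun h => hβi' (β.injective h).symm
    have key := card_lt_of_three (W0 ⊔ W1) Sb ?_ (u1 := i) (u2 := β i) (u3 := β (β i)) (Ne.symm hβi')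
      (Ne.symm hββ) hβ3 (w1 := (s0 * s) (ee F i) - ee F i) (w2 := (s0 * s) (ee F (β i)) - ee F (β i))
      (hbW _) (hbW _) ?_ ?_ ?_ ?_
    · have := Finset.card_le_card hsub
      omega
    · intro u hu
      have hu' := (Finset.mem_filter.1 hu).2
      refine ⟨(s0 * s) (ee F u) - ee F u, hbW _, ?_, β u, ?_⟩
      · by_cases hσk : β u = u
        · rcases hβ u with h | h
          · rw [hσk] at h; exact absurd h hu'
          · rw [hσk] at h
            rw [h, Pi.sub_apply, Pi.neg_apply]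
            simp only [ee, Pi.single_eq_same]
            intro h'
            exact h2 (by linear_combination -h')
        · rcases hβ u with h | h <;> rw [h] <;>
            simp [ee, Pi.single_apply, Ne.symm hσk]
      · intro c hck hcs
        rcases hβ u with h | h <;> rw [h] <;>
            simp [ee, Pi.single_apply, hck, hcs]
    · rcases hβ i with h | h <;> rw [h] <;>
        simp [ee, Pi.single_apply, Ne.symm hβi']
    · intro c hc1 hc2
      rcases hβ i with h | h <;> rw [h] <;>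
        simp [ee, Pi.single_apply, hc1, hc2]
    · rcases hβ (β i) with h | h <;> rw [h] <;>
        simp [ee, Pi.single_apply, hβ3]
    · intro c hc1 hc2
      rcases hβ (β i) with h | h <;> rw [h] <;>
        simp [ee, Pi.single_apply, hc1, hc2]
  · obtain ⟨w0, hw0, hw0ne⟩ := Submodule.exists_mem_ne_zero_of_ne_bot hinf
    have hw00 := (Submodule.mem_inf.1 hw0).1
    have hw01 := (Submodule.mem_inf.1 hw0).2
    have hpos : 1 ≤ Module.finrank F ↥(W0 ⊓ W1) := by
      rw [Nat.one_le_iff_ne_zero]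
      intro h
      exact hinf (Submodule.finrank_eq_zero.1 h)
    -- the functional w0·
    let φ : (ι → F) →ₗ[F] F := dotProductBilin F F w0
    have hφ : ∀ z, φ z = w0 ⬝ᵥ z := fun z => rfl
    have hlt : Module.finrank F ↥((W0 ⊔ W1) ⊓ LinearMap.ker φ) < Module.finrank F ↥(W0 ⊔ W1) := by
      apply Submodule.finrank_lt_finrank_of_lt
      refine lt_of_le_of_ne inf_le_left ?_
      intro h
      apply hw0ne
      have h0 : ∀ z, z ∈ W0 → w0 ⬝ᵥ z = 0 := by
        intro z hz
        have : z ∈ (W0 ⊔ W1) ⊓ LinearMap.ker φ := by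
          rw [h]; exact Submodule.mem_sup_left hz
        exact LinearMap.mem_ker.1 (Submodule.mem_inf.1 this).2
      funext c
      rw [Pi.zero_apply, ← dot_ee w0 c]
      have e1 := h0 _ (hW0 (ee F c))
      rw [dotProduct_sub] at e1
      have e2 : w0 ⬝ᵥ s0 (ee F c) = - (w0 ⬝ᵥ ee F c) := by
        have h3 := hs0I w0 (ee F c)
        rw [hW0n w0 hw00, neg_dotProduct] at h3
        rw [← h3, neg_neg]
      rw [e2] at e1
      have h' : 2 * (w0 ⬝ᵥ ee F c) = 0 := by linear_combination -e1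
      exact (mul_eq_zero.1 h').resolve_left h2
    have hbw0 : (s0 * s) w0 = w0 := by
      rw [LinearEquiv.mul_apply, hW1n w0 hw01, map_neg, hW0n w0 hw00, neg_neg]
    have hbU : ∀ z, (s0 * s) (ee F z) - ee F z ∈ (W0 ⊔ W1) ⊓ LinearMap.ker φ := by
      intro z
      refine Submodule.mem_inf.2 ⟨hbW _, ?_⟩
      rw [LinearMap.mem_ker, hφ, dotProduct_sub]
      have h3 := hbI w0 (ee F z)
      rw [hbw0] at h3
      rw [h3, sub_self]
    have hSb4 := card_moved_le h2 hMb _ hbU Sb (fun u hu => (Finset.mem_filter.1 hu).2)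
    have hSb4' : Sb.card ≤ 4 := by omega
    have hmoved : ∀ u, β u ≠ u → u ∈ Sb := by
      intro u hu
      refine Finset.mem_filter.2 ⟨Finset.mem_univ _, fun h => hu ?_⟩
      symm
      apply ee_inj_or h2 (F := F)
      rcases hβ u with h' | h'
      · left; rw [← h', h]
      · right; rw [← h', h]
    have hβk' : β k ≠ k := by
      intro h
      have : k ∈ Finset.image β {i, j} := by rw [himg]; simp
      simp only [Finset.mem_image, Finset.mem_insert, Finset.mem_singleton] at this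
      obtain ⟨c, hc, hck⟩ := this
      have hck' : c = k := β.injective (hck.trans h.symm)
      rcases hc with rfl | rfl
      · exact hik hck'
      · exact hjk hck'
    have hβl' : β l ≠ l := by
      intro h
      have : l ∈ Finset.image β {i, j} := by rw [himg]; simp
      simp only [Finset.mem_image, Finset.mem_insert, Finset.mem_singleton] at this
      obtain ⟨c, hc, hck⟩ := this
      have hck' : c = l := β.injective (hck.trans h.symm)
      rcases hc with rfl | rfl
      · exact hil hck'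
      · exact hjl hck'
    have h4set : ({i, j, k, l} : Finset ι) = Sb := by
      apply Finset.eq_of_subset_of_card_le
      · intro u hu
        simp only [Finset.mem_insert, Finset.mem_singleton] at hu
        rcases hu with rfl | rfl | rfl | rfl
        · exact hmoved _ hβi'
        · exact hmoved _ hβj'
        · exact hmoved _ hβk'
        · exact hmoved _ hβl'
      · have : ({i, j, k, l} : Finset ι).card = 4 := by
          rw [Finset.card_insert_of_notMem, Finset.card_insert_of_notMem, Finset.card_pair hkl]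
          · simp [hjk, hjl]
          · simp [hij, hik, hil]
        omega
    have hfixo : ∀ u, u ∉ ({i, j, k, l} : Finset ι) → β u = u := by
      intro u hu
      by_contra h
      exact hu (h4set ▸ hmoved u h)
    have hβset : ∀ u, u = k ∨ u = l → β u = i ∨ β u = j := by
      intro u hu
      have hui : u ≠ i ∧ u ≠ j := by
        rcases hu with rfl | rfl
        · exact ⟨Ne.symm hik, Ne.symm hjk⟩
        · exact ⟨Ne.symm hil, Ne.symm hjl⟩
      by_contra hno
      push Not at hno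
      have hβu' : β u ≠ u := by
        rcases hu with rfl | rfl <;> assumption
      by_cases hin : β u ∈ ({i, j, k, l} : Finset ι)
      · simp only [Finset.mem_insert, Finset.mem_singleton] at hin
        have hin' : β u ∈ Finset.image β {i, j} := by
          rw [himg]
          simp only [Finset.mem_insert, Finset.mem_singleton]
          rcases hin with h | h | h | h
          · exact absurd h hno.1
          · exact absurd h hno.2
          · exact Or.inl h
          · exact Or.inr h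
        simp only [Finset.mem_image, Finset.mem_insert, Finset.mem_singleton] at hin'
        obtain ⟨c, hc, hcu⟩ := hin'
        have hcu' : c = u := β.injective hcu
        rcases hc with rfl | rfl
        · exact hui.1 hcu'.symm
        · exact hui.2 hcu'.symm
      · exact hβu' (β.injective (hfixo _ hin))
    have himg2 : Finset.image (⇑(β ^ 2)) ({i, j} : Finset ι) = {i, j} := by
      apply Finset.eq_of_subset_of_card_le
      · intro u hu
        simp only [Finset.mem_image, Finset.mem_insert, Finset.mem_singleton] at hu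
        obtain ⟨c, hc, hcu⟩ := hu
        rw [pow_two, Equiv.Perm.mul_apply] at hcu
        simp only [Finset.mem_insert, Finset.mem_singleton]
        rw [← hcu]
        rcases hc with rfl | rfl
        · exact hβset _ hβi
        · exact hβset _ hβj
      · rw [Finset.card_image_of_injective _ (β ^ 2).injective]
    have hcomm2 : Commute ((s0 * s) ^ 2) (sg F {i, j}) := by
      have e2 := mono_mul_sg (mono_pow_apply hβ 2) ({i, j} : Finset ι)
      rw [himg2] at e2
      exact mul_inv_eq_iff_eq_mul.1 e2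
    have hb : s0 * s = ((s0 * s) ^ 2) ^ (m + 1) := by
      have : (s0 * s) ^ (2 * m + 1 + 1) = s0 * s := by rw [pow_succ, hpow, one_mul]
      rw [← pow_mul, ← this]
      conv_lhs => rw [this]
      rw [show 2 * (m + 1) = 2 * m + 1 + 1 by ring, this]
      rw [this]
    have hcomm1 : Commute (s0 * s) (sg F {i, j}) := by
      rw [hb]; exact hcomm2.pow_left (m + 1)
    apply hne
    apply sg_injective h2
    rw [← hbconj]
    exact (mul_inv_eq_iff_eq_mul.2 hcomm1.eq).symm

end Cfsg.Agent.H928
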